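import Cfsg.Agent.Lib.Perm.ThreeTransitive
import Cfsg.Agent.Lib.Perm.Multiple
import Mathlib.NumberTheory.LegendreSymbol.QuadraticChar.Basic
import Mathlib.LinearAlgebra.Matrix.ToLin

/-!
Groups of prime degree `p` whose Sylow normaliser contains all square multipliers: the pointwise
stabiliser of two points has at most two further orbits.
-/

set_option autoImplicit false
set_option linter.style.haveILetI false
set_option linter.unusedSectionVars false

namespace Cfsg.Agent.HalfNorm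

open MulAction
open Cfsg.Agent.PermModules Cfsg.Agent.PermPrime

variable {G : Type*} [Group G] {Ω : Type*} [MulAction G Ω] {p : ℕ}

/-- Coordinates in which the group contains all maps `x ↦ k ^ 2 * x + m`. -/
structure Coord (G : Type*) [Group G] (Ω : Type*) [MulAction G Ω] (p : ℕ) where
  τ : G
  e : ZMod p ≃ Ω
  tr : ∀ j, τ • e j = e (j + 1)
  mult : ∀ k : ZMod p, k ≠ 0 → ∃ g : G, ∀ j, g • e j = e (k ^ 2 * j)

variable [Fact p.Prime]

theorem Coord.shift (C : Coord G Ω p) (n : ℕ) : ∀ j, C.τ ^ n • C.e j = C.e (j + n) := by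
  induction n with
  | zero => simp
  | succ n ih => intro j; rw [pow_succ', mul_smul, ih, C.tr, Nat.cast_succ, add_assoc]

theorem Coord.translate (C : Coord G Ω p) (m : ZMod p) : ∃ g : G, ∀ j, g • C.e j = C.e (j + m) :=
  ⟨C.τ ^ m.val, fun j => by rw [C.shift, ZMod.natCast_zmod_val]⟩

theorem Coord.affine (C : Coord G Ω p) (k m : ZMod p) (hk : k ≠ 0) :
    ∃ g : G, ∀ j, g • C.e j = C.e (k ^ 2 * j + m) := by
  obtain ⟨g, hg⟩ := C.mult k hk
  obtain ⟨h, hh⟩ := C.translate m
  exact ⟨h * g, fun j => by rw [mul_smul, hg, hh]⟩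

theorem isSquare_of_mul (a b : ZMod p) (ha : ¬ IsSquare a) (hb : ¬ IsSquare b) :
    IsSquare (a * b) := by
  have h2 : ringChar (ZMod p) ≠ 2 := by
    intro h
    have : p = 2 := by rwa [ZMod.ringChar_zmod_n] at h
    subst this
    exact ha (FiniteField.isSquare_of_char_two (ringChar.eq (ZMod 2) 2) a)
  have hab : a * b ≠ 0 := by
    intro h
    rcases mul_eq_zero.1 h with rfl | rfl
    exacts [ha IsSquare.zero, hb IsSquare.zero]
  rw [← quadraticChar_one_iff_isSquare hab, map_mul,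
    quadraticChar_neg_one_iff_not_isSquare.2 ha, quadraticChar_neg_one_iff_not_isSquare.2 hb]
  norm_num

/-- The normalizer gives the coordinates. -/
theorem exists_coords [Finite G] [FaithfulSMul G Ω] [IsPretransitive G Ω]
    (hΩ : Nat.card Ω = p) (P : Sylow p G)
    (hN : 2 * Nat.card ↥(Subgroup.normalizer ((P : Subgroup G) : Set G)) = p * (p - 1)) :
    Nonempty (Coord G Ω p) ∧ p ≠ 2 := by
  have hp := (Fact.out : p.Prime)
  have hP := sylow_card hΩ P
  have hPN : (P : Subgroup G) ≤ Subgroup.normalizer ((P : Subgroup G) : Set G) := Subgroup.le_normalizer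
  have hp2 : p ≠ 2 := by
    intro h
    have h1 := Nat.le_of_dvd Nat.card_pos (Subgroup.card_dvd_of_le hPN)
    rw [hP] at h1
    rw [show p * (p - 1) = 2 by rw [h]] at hN
    omega
  refine ⟨?_, hp2⟩
  obtain ⟨⟨τ, hτP⟩, ho⟩ := exists_prime_orderOf_dvd_card' p (dvd_of_eq hP.symm)
  rw [Subgroup.orderOf_mk] at ho
  have hPz : (P : Subgroup G) = Subgroup.zpowers τ := by
    refine (Subgroup.eq_of_le_of_card_ge (Subgroup.zpowers_le.2 hτP) ?_).symm
    rw [Nat.card_zpowers, ho, hP]
  obtain ⟨a, ha⟩ : ∃ a : Ω, τ • a ≠ a := by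
    by_contra h
    simp only [not_exists, not_not] at h
    have : τ = 1 := FaithfulSMul.eq_of_smul_eq_smul fun x : Ω => by rw [h x, one_smul]
    rw [this, orderOf_one] at ho
    exact hp.one_lt.ne ho
  obtain ⟨e, -, he⟩ := coord_of_element hΩ
    (fun x => by rw [← ho, pow_orderOf_eq_one, one_smul]) ha
  have hpow : ∀ (n : ℕ) j, τ ^ n • e j = e (j + n) := by
    intro n
    induction n with
    | zero => simp
    | succ n ih => intro j; rw [pow_succ', mul_smul, ih, he, Nat.cast_succ, add_assoc]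
  set N := Subgroup.normalizer ((P : Subgroup G) : Set G) with hNdef
  have haff : ∀ s : N, ∃ k m : ZMod p, ∀ j, (s : G) • e j = e (k * j + m) := by
    rintro ⟨s, hs⟩
    have hconj : s * τ * s⁻¹ ∈ Subgroup.zpowers τ := by
      rw [← hPz]; exact (Subgroup.mem_normalizer_iff.1 hs τ).1 hτP
    obtain ⟨n, hn⟩ := ((isOfFinOrder_of_finite τ).mem_powers_iff_mem_zpowers).2 hconj
    simp only at hn
    refine ⟨n, e.symm (s • e 0), fun j => ?_⟩
    have hform : ∀ i : ℕ, s • e (i : ZMod p) = e ((n : ZMod p) * i + e.symm (s • e 0)) := by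
      intro i
      induction i with
      | zero => simp
      | succ i ih =>
        rw [Nat.cast_succ, ← he, smul_smul, show s * τ = τ ^ n * s by rw [hn]; group, mul_smul, ih,
          hpow]
        congr 1; ring
    simpa using hform j.val
  choose k m hkm using haff
  have hk : ∀ s : N, k s = e.symm ((s : G) • e 1) - e.symm ((s : G) • e 0) := fun s => by simp [hkm]
  have hkne : ∀ s : N, k s ≠ 0 := by
    intro s h
    have h0 := hkm s 0
    have h1 := hkm s 1
    rw [h, zero_mul] at h0 h1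
    exact zero_ne_one (e.injective (smul_left_cancel _ (h0.trans h1.symm)))
  let ψ : N →* (ZMod p)ˣ := MonoidHom.mk' (fun s => Units.mk0 (k s) (hkne s)) fun s t => by
    ext
    simp only [Units.val_mk0, Units.val_mul]
    rw [hk (s * t)]
    simp [mul_smul, hkm]
    ring
  have hker : Nat.card ψ.ker ∣ p := by
    refine (dvd_of_eq (Nat.card_congr
      (ψ.ker.equivMapOfInjective N.subtype N.subtype_injective).toEquiv)).trans
      ((Subgroup.card_dvd_of_le ?_).trans (dvd_of_eq hP))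
    rintro _ ⟨s, hs, rfl⟩
    have hk1 : k s = 1 := congrArg Units.val (MonoidHom.mem_ker.1 hs)
    have : (s : G) = τ ^ (m s).val := FaithfulSMul.eq_of_smul_eq_smul fun x : Ω => by
      obtain ⟨j, rfl⟩ := e.surjective x
      rw [hkm, hpow, hk1, one_mul, ZMod.natCast_zmod_val]
    show (s : G) ∈ (P : Subgroup G)
    rw [this]
    exact pow_mem hτP _
  have hcard := ψ.ker.card_mul_index
  rw [Subgroup.index_ker] at hcard
  set R := ψ.range with hR
  have hRd : Nat.card R * R.index = p - 1 := by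
    rw [R.card_mul_index, Nat.card_eq_fintype_card, ZMod.card_units_eq_totient, Nat.totient_prime hp]
  have hidx : R.index ≤ 2 := by
    have h1 := Nat.le_of_dvd hp.pos hker
    have h2 : Nat.card N ≤ p * Nat.card R := hcard ▸ Nat.mul_le_mul_right _ h1
    have h3 : p * (p - 1) ≤ p * (2 * Nat.card R) := by
      rw [← hN, show p * (2 * Nat.card R) = 2 * (p * Nat.card R) by ring]
      exact Nat.mul_le_mul_left 2 h2
    have h4 := Nat.le_of_mul_le_mul_left h3 hp.pos
    rw [← hRd, mul_comm 2] at h4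
    exact Nat.le_of_mul_le_mul_left h4 Nat.card_pos
  refine ⟨⟨τ, e, he, fun x hx => ?_⟩⟩
  have hsq : (Units.mk0 x hx) ^ 2 ∈ R := by
    rcases (show R.index = 0 ∨ R.index = 1 ∨ R.index = 2 by omega) with h | h | h
    · exact absurd h Subgroup.index_ne_zero_of_finite
    · rw [Subgroup.index_eq_one.1 h]; exact Subgroup.mem_top _
    · exact Subgroup.sq_mem_of_index_two h _
  obtain ⟨s, hs⟩ := hsq
  have hk2 : k s = x ^ 2 := by simpa [ψ] using congrArg Units.val hs
  refine ⟨τ ^ (-(m s)).val * s, fun j => ?_⟩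
  rw [mul_smul, hkm, hpow, ZMod.natCast_zmod_val, hk2, add_neg_cancel_right]

/-- The heart argument: an invariant function of a point and an ordered pair is independent of the
point when three linear conditions hold. -/
theorem key [Finite G] [FaithfulSMul G Ω] [IsPretransitive G Ω] [Fintype Ω] [DecidableEq Ω]
    (hΩ : Nat.card Ω = p) (hG : ¬ Group.IsSolvable G) (C : Coord G Ω p)
    (M : Ω → Ω → Ω → ZMod p) (hinv : ∀ (g : G) x a b, M (g • x) (g • a) (g • b) = M x a b)
    (hsum : ∀ a b, ∑ x, M x a b = 0)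
    (h0 : ∑ x, M x (C.e 0) (C.e 0) * C.e.symm x = 0)
    (h1 : ∑ x, M x (C.e 0) (C.e 1) * C.e.symm x = 0)
    {n0 : ZMod p} (hn0 : ¬ IsSquare n0) (hn : ∑ x, M x (C.e 0) (C.e n0) * C.e.symm x = 0) :
    ∀ a b x y, M x a b = M y a b := by
  have hp5 := (not_solvable_not_affine hG C.e).2
  set w : Ω → ZMod p := fun x => C.e.symm x with hw
  let φ : Ω → Ω → ZMod p := fun a b => ∑ x, M x a b * w x
  have hmove : ∀ (g : G) a b, φ (g • a) (g • b) = ∑ x, M x a b * w (g • x) := fun g a b => by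
    refine (Fintype.sum_equiv (toPerm g) _ _ fun x => ?_).symm
    rw [toPerm_apply, hinv]
  have haff : ∀ (k m i j : ZMod p), k ≠ 0 →
      φ (C.e (k ^ 2 * i + m)) (C.e (k ^ 2 * j + m)) = k ^ 2 * φ (C.e i) (C.e j) := by
    intro k m i j hk
    obtain ⟨g, hg⟩ := C.affine k m hk
    rw [← hg i, ← hg j, hmove]
    have hwg : ∀ x, w (g • x) = k ^ 2 * w x + m := fun x => by
      obtain ⟨l, rfl⟩ := C.e.surjective x
      simp [w, hg]
    simp only [hwg, mul_add, Finset.sum_add_distrib, ← Finset.sum_mul, hsum, zero_mul, add_zero]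
    rw [Finset.mul_sum]
    exact Finset.sum_congr rfl fun x _ => by ring
  have hφ : ∀ a b, φ a b = 0 := by
    intro a b
    obtain ⟨i, rfl⟩ := C.e.surjective a
    obtain ⟨j, rfl⟩ := C.e.surjective b
    have h := haff 1 i 0 (j - i) one_ne_zero
    simp only [one_pow, one_mul, zero_add, sub_add_cancel] at h
    rw [h]
    by_cases hd : j - i = 0
    · rw [hd]; exact h0
    by_cases hs : IsSquare (j - i)
    · obtain ⟨k, hk⟩ := hs
      have hk0 : k ≠ 0 := fun e => hd (by rw [hk, e, mul_zero])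
      have h' := haff k 0 0 1 hk0
      rw [mul_zero, add_zero, mul_one, add_zero, pow_two, ← hk] at h'
      rw [h', show φ (C.e 0) (C.e 1) = 0 from h1, mul_zero]
    · have hn00 : n0 ≠ 0 := fun e => hn0 (e ▸ IsSquare.zero)
      obtain ⟨k, hk⟩ : IsSquare ((j - i) / n0) := by
        rw [div_eq_mul_inv]
        refine isSquare_of_mul _ _ hs fun hi => hn0 ?_
        simpa using hi.inv
      have hk0 : k ≠ 0 := fun e => div_ne_zero hd hn00 (by rw [hk, e, mul_zero])
      have h' := haff k 0 0 n0 hk0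
      rw [mul_zero, add_zero, add_zero, pow_two, ← hk, div_mul_cancel₀ _ hn00] at h'
      rw [h', show φ (C.e 0) (C.e n0) = 0 from hn, mul_zero]
  let S := (Cfsg.permSumZero (ZMod p) G Ω).toSubmodule
  let W : Subrepresentation (Cfsg.permRep (ZMod p) G Ω) :=
    ⟨{ carrier := {v | ∑ x, v x = 0 ∧ ∀ a b, ∑ x, M x a b * v x = 0}
       add_mem' := fun {u v} hu hv => ⟨by
          simp [Finset.sum_add_distrib, hu.1, hv.1], fun a b => by
          simp [mul_add, Finset.sum_add_distrib, hu.2, hv.2]⟩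
       zero_mem' := ⟨by simp, fun a b => by simp⟩
       smul_mem' := fun c v hv => ⟨by simp [← Finset.mul_sum, hv.1], fun a b => by
          simp [mul_left_comm _ c, ← Finset.mul_sum, hv.2]⟩ }, by
      intro g v hv
      refine ⟨?_, fun a b => ?_⟩
      · rw [← hv.1]
        exact Fintype.sum_equiv (toPerm g⁻¹) _ _ fun x => by rw [permRep_apply, toPerm_apply]
      · rw [← hv.2 (g⁻¹ • a) (g⁻¹ • b)]
        exact Fintype.sum_equiv (toPerm g⁻¹) _ _ fun x => by
          rw [permRep_apply, toPerm_apply, hinv]⟩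
  have hcard : Fintype.card Ω = p := by rw [← Nat.card_eq_fintype_card, hΩ]
  have hCW : (Cfsg.permConstants (ZMod p) G Ω).toSubmodule ≤ W.toSubmodule := by
    intro v hv
    obtain ⟨c, hc⟩ := mem_permConstants.1 hv
    refine ⟨?_, fun a b => ?_⟩
    · simp [hc, hcard]
    · simp only [hc, ← Finset.sum_mul, hsum, zero_mul]
  have hwW : w ∈ W.toSubmodule := by
    refine ⟨?_, hφ⟩
    rw [← C.e.sum_comp]
    simp only [w, Equiv.symm_apply_apply]
    simpa using FiniteField.sum_pow_lt_card_sub_one (ZMod p) 1 (by rw [ZMod.card]; omega)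
  have hWS : W.toSubmodule = S := by
    refine (heart_irreducible hΩ hG W hCW (fun v hv => hv.1)).resolve_left fun h => ?_
    obtain ⟨c, hc⟩ := mem_permConstants.1 (h ▸ hwW)
    have h' := (hc (C.e 1)).trans (hc (C.e 0)).symm
    simp [w] at h'
  intro a b x y
  have hmem : (Pi.single x (1 : ZMod p) - Pi.single y 1 : Ω → ZMod p) ∈ W.toSubmodule := by
    rw [hWS]
    show ∑ z, _ = 0
    simp [Finset.sum_sub_distrib, Finset.sum_pi_single']
  have h := hmem.2 a b
  simpa [mul_sub, Finset.sum_sub_distrib, Pi.single_apply, sub_eq_zero] using h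

/-- `z` and `z'` lie in the same orbit of the stabiliser of `a` and `b`. -/
def Rel (G : Type*) [Group G] {Ω : Type*} [MulAction G Ω] (a b z z' : Ω) : Prop :=
  ∃ g : G, g • a = a ∧ g • b = b ∧ g • z = z'

theorem Rel.refl (a b z : Ω) : Rel G a b z z := ⟨1, one_smul _ a, one_smul _ b, one_smul _ z⟩

theorem Rel.symm {a b z z' : Ω} (h : Rel G a b z z') : Rel G a b z' z := by
  obtain ⟨g, ha, hb, hz⟩ := h
  exact ⟨g⁻¹, inv_smul_eq_iff.2 ha.symm, inv_smul_eq_iff.2 hb.symm, inv_smul_eq_iff.2 hz.symm⟩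

theorem Rel.trans {a b z z' z'' : Ω} (h : Rel G a b z z') (h' : Rel G a b z' z'') :
    Rel G a b z z'' := by
  obtain ⟨g, ha, hb, hz⟩ := h
  obtain ⟨k, ka, kb, kz⟩ := h'
  exact ⟨k * g, by rw [mul_smul, ha, ka], by rw [mul_smul, hb, kb], by rw [mul_smul, hz, kz]⟩

/-- Among three points two are in one orbit of the stabiliser of two others. -/
theorem two_orbits [Finite G] [FaithfulSMul G Ω] [IsPretransitive G Ω]
    (hΩ : Nat.card Ω = p) (hp2 : p ≠ 2) (hG : ¬ Group.IsSolvable G) (C : Coord G Ω p)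
    (a b z1 z2 z3 : Ω) (hab : a ≠ b) (h1a : z1 ≠ a) (h1b : z1 ≠ b) (h2a : z2 ≠ a) (h2b : z2 ≠ b)
    (h3a : z3 ≠ a) (h3b : z3 ≠ b) :
    Rel G a b z1 z2 ∨ Rel G a b z1 z3 ∨ Rel G a b z2 z3 := by
  classical
  by_contra hcon
  push Not at hcon
  haveI : Finite Ω := Nat.finite_of_card_ne_zero (hΩ ▸ (Fact.out : p.Prime).ne_zero)
  haveI := Fintype.ofFinite Ω
  have h2 : IsMultiplyPretransitive G Ω 2 := (burnside hΩ).resolve_left hG
  obtain ⟨n0, hn0⟩ := FiniteField.exists_nonsquare (F := ZMod p) (by rw [ZMod.ringChar_zmod_n]; exact hp2)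
  let z : Fin 3 → Ω := ![z1, z2, z3]
  have hz : ∀ i, z i ≠ a ∧ z i ≠ b := fun i => by
    fin_cases i
    exacts [⟨h1a, h1b⟩, ⟨h2a, h2b⟩, ⟨h3a, h3b⟩]
  have hzz : ∀ i j, Rel G a b (z i) (z j) → i = j := fun i j h => by
    fin_cases i <;> fin_cases j <;> simp [z] at h ⊢
    exacts [hcon.1 h, hcon.2.1 h, hcon.1 h.symm, hcon.2.2 h, hcon.2.1 h.symm, hcon.2.2 h.symm]
  let Pr : Fin 4 → Ω → Ω → Ω → Prop := fun i x α β =>
    Fin.lastCases (x = α ∧ α ≠ β) (fun j => ∃ g : G, g • a = α ∧ g • b = β ∧ g • z j = x) i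
  have hPr : ∀ i (g : G) x α β, Pr i x α β → Pr i (g • x) (g • α) (g • β) := by
    intro i g x α β
    induction i using Fin.lastCases with
    | last =>
      simp only [Pr, Fin.lastCases_last]
      rintro ⟨rfl, hne⟩
      exact ⟨rfl, fun e => hne (smul_left_cancel g e)⟩
    | cast j =>
      simp only [Pr, Fin.lastCases_castSucc]
      rintro ⟨k, ka, kb, kz⟩
      exact ⟨g * k, by rw [mul_smul, ka], by rw [mul_smul, kb], by rw [mul_smul, kz]⟩
  have hdiag : ∀ i x α, ¬ Pr i x α α := by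
    intro i x α
    induction i using Fin.lastCases with
    | last =>
      simp only [Pr, Fin.lastCases_last]
      exact fun h => h.2 rfl
    | cast j =>
      simp only [Pr, Fin.lastCases_castSucc]
      rintro ⟨k, ka, kb, -⟩
      exact hab (smul_left_cancel k (ka.trans kb.symm))
  let I : Fin 4 → Ω → Ω → Ω → ZMod p := fun i x α β => if Pr i x α β then 1 else 0
  have hI : ∀ i (g : G) x α β, I i (g • x) (g • α) (g • β) = I i x α β := by
    intro i g x α β
    refine if_congr ⟨fun h => ?_, hPr i g x α β⟩ rfl rfl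
    simpa using hPr i g⁻¹ _ _ _ h
  let A : Matrix (Fin 3) (Fin 4) (ZMod p) := fun r i =>
    ![∑ x, I i x a b, ∑ x, I i x (C.e 0) (C.e 1) * C.e.symm x,
      ∑ x, I i x (C.e 0) (C.e n0) * C.e.symm x] r
  obtain ⟨c, hc, hc0⟩ := Submodule.exists_mem_ne_zero_of_ne_bot
    (LinearMap.ker_ne_bot_of_finrank_lt (f := A.mulVecLin) (by simp))
  have hAc : ∀ r, ∑ i, A r i * c i = 0 := fun r => congrFun (LinearMap.mem_ker.1 hc) r
  let M : Ω → Ω → Ω → ZMod p := fun x α β => ∑ i, c i * I i x α β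
  have hMdiag : ∀ x α, M x α α = 0 := fun x α => by simp [M, I, hdiag]
  have hMinv : ∀ (g : G) x α β, M (g • x) (g • α) (g • β) = M x α β := fun g x α β => by
    simp only [M, hI]
  have hsw : ∀ α β, ∑ x, M x α β = ∑ i, (∑ x, I i x α β) * c i := fun α β => by
    simp only [M]
    rw [Finset.sum_comm]
    exact Finset.sum_congr rfl fun i _ => by
      rw [Finset.sum_mul]; exact Finset.sum_congr rfl fun x _ => mul_comm _ _
  have hφ : ∀ α β, ∑ x, M x α β * C.e.symm x =
      ∑ i, (∑ x, I i x α β * C.e.symm x) * c i := fun α β => by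
    simp only [M, Finset.sum_mul]
    rw [Finset.sum_comm]
    exact Finset.sum_congr rfl fun i _ => Finset.sum_congr rfl fun x _ => by ring
  have hsum : ∀ α β, ∑ x, M x α β = 0 := by
    intro α β
    by_cases h : α = β
    · subst h; simp [hMdiag]
    obtain ⟨g, ga, gb⟩ := (is_two_pretransitive_iff.1 h2) hab h
    rw [← ga, ← gb, ← Fintype.sum_equiv (toPerm g) (fun x => M x a b) (fun x => M x (g • a) (g • b))
      (fun x => by rw [toPerm_apply, hMinv]), hsw]
    simpa [A] using hAc 0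
  have hconst := key hΩ hG C M hMinv hsum (by simp [hMdiag])
    (by rw [hφ]; simpa [A] using hAc 1) hn0 (by rw [hφ]; simpa [A] using hAc 2) a b
  have hIz : ∀ j i, I i (z j) a b = if i = j.castSucc then 1 else 0 := by
    intro j i
    induction i using Fin.lastCases with
    | last =>
      simp only [I, Pr, Fin.lastCases_last]
      rw [if_neg fun h => (hz j).1 h.1, if_neg (Fin.castSucc_lt_last j).ne']
    | cast i =>
      simp only [I, Pr, Fin.lastCases_castSucc, Fin.castSucc_inj]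
      exact if_congr ⟨fun ⟨g, h⟩ => hzz i j ⟨g, h⟩,
        fun h => h ▸ ⟨1, one_smul _ _, one_smul _ _, one_smul _ _⟩⟩ rfl rfl
  have hIb : ∀ i, I i b a b = 0 := by
    intro i
    induction i using Fin.lastCases with
    | last =>
      simp only [I, Pr, Fin.lastCases_last]
      rw [if_neg fun h => hab h.1.symm]
    | cast i =>
      simp only [I, Pr, Fin.lastCases_castSucc, ite_eq_right_iff, one_ne_zero, imp_false]
      rintro ⟨g, -, gb, gz⟩
      exact (hz i).2 (smul_left_cancel g (gz.trans gb.symm))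
  have hIa : ∀ i, I i a a b = if i = Fin.last 3 then 1 else 0 := by
    intro i
    induction i using Fin.lastCases with
    | last =>
      simp only [I, Pr, Fin.lastCases_last]
      rw [if_pos ⟨trivial, hab⟩, if_pos trivial]
    | cast i =>
      simp only [I, Pr, Fin.lastCases_castSucc, (Fin.castSucc_lt_last i).ne, if_false,
        ite_eq_right_iff, one_ne_zero, imp_false]
      rintro ⟨g, ga, -, gz⟩
      exact (hz i).1 (smul_left_cancel g (gz.trans ga.symm))
  have hMb : M b a b = 0 := by simp [M, hIb]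
  refine hc0 (funext fun i => ?_)
  induction i using Fin.lastCases with
  | last => simpa [M, hIa] using (hconst a b).trans hMb
  | cast j => simpa [M, hIz] using (hconst (z j) b).trans hMb

/-- The criterion for triple transitivity. -/
theorem three_of_rel [Finite G] (h2 : IsMultiplyPretransitive G Ω 2) (hp : 4 ≤ p) (hΩ : Nat.card Ω = p)
    {a b : Ω} (hab : a ≠ b)
    (h : ∀ z z', z ≠ a → z ≠ b → z' ≠ a → z' ≠ b → Rel G a b z z') :
    IsMultiplyPretransitive G Ω 3 := by
  classical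
  haveI : Finite Ω := Nat.finite_of_card_ne_zero (by omega)
  haveI := Fintype.ofFinite Ω
  have h3 : PermMultiple.FixTransitive G Ω 2 := by
    intro S hS x y hx hy
    obtain ⟨u, v, huv, rfl⟩ := Finset.card_eq_two.1 hS
    obtain ⟨g, ga, gb⟩ := (is_two_pretransitive_iff.1 h2) hab huv
    simp only [Finset.mem_insert, Finset.mem_singleton, not_or] at hx hy
    obtain ⟨k, ka, kb, kx⟩ := h (g⁻¹ • x) (g⁻¹ • y)
      (fun e => hx.1 (by rw [← ga, ← e, smul_inv_smul])) (fun e => hx.2 (by rw [← gb, ← e, smul_inv_smul]))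
      (fun e => hy.1 (by rw [← ga, ← e, smul_inv_smul])) (fun e => hy.2 (by rw [← gb, ← e, smul_inv_smul]))
    refine ⟨g * k * g⁻¹, ?_, by rw [mul_smul, mul_smul, kx, smul_inv_smul]⟩
    simp only [Finset.mem_insert, Finset.mem_singleton, forall_eq_or_imp, forall_eq]
    constructor
    · rw [← ga, mul_smul, mul_smul, inv_smul_smul, ka]
    · rw [← gb, mul_smul, mul_smul, inv_smul_smul, kb]
  exact PermMultiple.isMultiplyPretransitive_of_fixTransitive fun j hj =>
    PermMultiple.fixTransitive_le h3 (by rw [← Nat.card_eq_fintype_card, hΩ]; omega) (by omega)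

/-- A symmetric orbit of triples of distinct points, the other such triples forming another. -/
structure Tri (G : Type*) [Group G] (Ω : Type*) [MulAction G Ω] where
  T : Ω → Ω → Ω → Prop
  inv : ∀ (g : G) {a b c : Ω}, T a b c → T (g • a) (g • b) (g • c)
  ne12 : ∀ {a b c : Ω}, T a b c → a ≠ b
  ne13 : ∀ {a b c : Ω}, T a b c → a ≠ c
  ne23 : ∀ {a b c : Ω}, T a b c → b ≠ c
  s12 : ∀ {a b c : Ω}, T a b c → T b a c
  s23 : ∀ {a b c : Ω}, T a b c → T a c b
  ex : ∃ a b c, T a b c
  ex' : ∃ a b c, a ≠ b ∧ a ≠ c ∧ b ≠ c ∧ ¬ T a b c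
  orbit : ∀ {a b c a' b' c' : Ω}, T a b c → T a' b' c' →
    ∃ g : G, g • a = a' ∧ g • b = b' ∧ g • c = c'
  orbit' : ∀ {a b c a' b' c' : Ω}, a ≠ b → a ≠ c → b ≠ c → ¬ T a b c →
    a' ≠ b' → a' ≠ c' → b' ≠ c' → ¬ T a' b' c' →
    ∃ g : G, g • a = a' ∧ g • b = b' ∧ g • c = c'

theorem Tri.inv_iff (D : Tri G Ω) (g : G) {a b c : Ω} : D.T (g • a) (g • b) (g • c) ↔ D.T a b c :=
  ⟨fun h => by simpa using D.inv g⁻¹ h, D.inv g⟩

/-- The other orbit. -/
def Tri.compl (D : Tri G Ω) : Tri G Ω where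
  T a b c := a ≠ b ∧ a ≠ c ∧ b ≠ c ∧ ¬ D.T a b c
  inv g := fun ⟨h1, h2, h3, h4⟩ => ⟨fun e => h1 (smul_left_cancel g e),
    fun e => h2 (smul_left_cancel g e), fun e => h3 (smul_left_cancel g e),
    fun h => h4 ((D.inv_iff g).1 h)⟩
  ne12 h := h.1
  ne13 h := h.2.1
  ne23 h := h.2.2.1
  s12 := fun ⟨h1, h2, h3, h4⟩ => ⟨h1.symm, h3, h2, fun h => h4 (D.s12 h)⟩
  s23 := fun ⟨h1, h2, h3, h4⟩ => ⟨h2, h1, h3.symm, fun h => h4 (D.s23 h)⟩
  ex := let ⟨a, b, c, h⟩ := D.ex'; ⟨a, b, c, h⟩
  ex' := let ⟨a, b, c, h⟩ := D.ex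
    ⟨a, b, c, D.ne12 h, D.ne13 h, D.ne23 h, fun h' => h'.2.2.2 h⟩
  orbit h h' := D.orbit' h.1 h.2.1 h.2.2.1 h.2.2.2 h'.1 h'.2.1 h'.2.2.1 h'.2.2.2
  orbit' h1 h2 h3 h k1 k2 k3 k := D.orbit (not_not.1 fun hn => h ⟨h1, h2, h3, hn⟩)
    (not_not.1 fun hn => k ⟨k1, k2, k3, hn⟩)

/-- Not triply transitive: two symmetric orbits of triples. -/
theorem exists_tri [Finite G] [FaithfulSMul G Ω] [IsPretransitive G Ω]
    (hΩ : Nat.card Ω = p) (hG : ¬ Group.IsSolvable G) (C : Coord G Ω p)
    (h3 : ¬ IsMultiplyPretransitive G Ω 3) : Nonempty (Tri G Ω) := by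
  classical
  have hp := (Fact.out : p.Prime)
  haveI : Finite Ω := Nat.finite_of_card_ne_zero (hΩ ▸ hp.ne_zero)
  haveI := Fintype.ofFinite Ω
  have hp5 := (not_solvable_not_affine hG C.e).2
  have h2 : IsMultiplyPretransitive G Ω 2 := (burnside hΩ).resolve_left hG
  haveI : Nontrivial Ω := Finite.one_lt_card_iff_nontrivial.1 (by omega)
  obtain ⟨a, b, hab⟩ := exists_pair_ne Ω
  obtain ⟨z, z', hza, hzb, hza', hzb', hzz⟩ :
      ∃ z z', z ≠ a ∧ z ≠ b ∧ z' ≠ a ∧ z' ≠ b ∧ ¬ Rel G a b z z' := by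
    by_contra hcon
    push Not at hcon
    exact h3 (three_of_rel h2 (by omega) hΩ hab hcon)
  let T : Ω → Ω → Ω → Prop := fun x y u => ∃ g : G, g • a = x ∧ g • b = y ∧ g • z = u
  have inv : ∀ (g : G) x y u, T x y u → T (g • x) (g • y) (g • u) := by
    rintro g x y u ⟨k, k1, k2, k3⟩
    exact ⟨g * k, by rw [mul_smul, k1], by rw [mul_smul, k2], by rw [mul_smul, k3]⟩
  have orb : ∀ x y u x' y' u', T x y u → T x' y' u' →
      ∃ g : G, g • x = x' ∧ g • y = y' ∧ g • u = u' := by
    rintro x y u x' y' u' ⟨k, rfl, rfl, rfl⟩ ⟨l, rfl, rfl, rfl⟩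
    exact ⟨l * k⁻¹, by simp [mul_smul], by simp [mul_smul], by simp [mul_smul]⟩
  have orb' : ∀ x y u x' y' u', x ≠ y → x ≠ u → y ≠ u → ¬ T x y u → x' ≠ y' → x' ≠ u' → y' ≠ u' →
      ¬ T x' y' u' → ∃ g : G, g • x = x' ∧ g • y = y' ∧ g • u = u' := by
    have std : ∀ x y u, x ≠ y → x ≠ u → y ≠ u → ¬ T x y u →
        ∃ g : G, g • a = x ∧ g • b = y ∧ g • z' = u := by
      intro x y u hxy hxu hyu hT
      obtain ⟨g, ga, gb⟩ := (is_two_pretransitive_iff.1 h2) hab hxy
      have hua : g⁻¹ • u ≠ a := fun e => hxu (by rw [← ga, ← e, smul_inv_smul])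
      have hub : g⁻¹ • u ≠ b := fun e => hyu (by rw [← gb, ← e, smul_inv_smul])
      have hp2 : p ≠ 2 := by omega
      rcases two_orbits hΩ hp2 hG C a b z z' (g⁻¹ • u) hab hza hzb hza' hzb' hua hub with h | h | h
      · exact absurd h hzz
      · obtain ⟨k, ka, kb, kz⟩ := h
        exact absurd ⟨g * k, by rw [mul_smul, ka, ga], by rw [mul_smul, kb, gb],
          by rw [mul_smul, kz, smul_inv_smul]⟩ hT
      · obtain ⟨k, ka, kb, kz⟩ := h
        exact ⟨g * k, by rw [mul_smul, ka, ga], by rw [mul_smul, kb, gb],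
          by rw [mul_smul, kz, smul_inv_smul]⟩
    intro x y u x' y' u' h1 h2 h3 h k1 k2 k3 k
    obtain ⟨g, rfl, rfl, rfl⟩ := std x y u h1 h2 h3 h
    obtain ⟨l, rfl, rfl, rfl⟩ := std x' y' u' k1 k2 k3 k
    exact ⟨l * g⁻¹, by simp [mul_smul], by simp [mul_smul], by simp [mul_smul]⟩
  have d : ∀ {x y u}, T x y u → x ≠ y ∧ x ≠ u ∧ y ≠ u := by
    rintro x y u ⟨g, rfl, rfl, rfl⟩
    exact ⟨fun e => hab (smul_left_cancel g e), fun e => hza (smul_left_cancel g e).symm,
      fun e => hzb (smul_left_cancel g e).symm⟩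
  have hex : T a b z := ⟨1, one_smul _ _, one_smul _ _, one_smul _ _⟩
  have hex' : ¬ T a b z' := fun ⟨g, h⟩ => hzz ⟨g, h⟩
  -- a permutation of the places fixes both orbits or exchanges them
  have swapcase : ∀ (σ : Ω × Ω × Ω → Ω × Ω × Ω), (∀ t, σ (σ t) = t) →
      (∀ (g : G) x y u, σ (g • x, g • y, g • u) =
        (g • (σ (x, y, u)).1, g • (σ (x, y, u)).2.1, g • (σ (x, y, u)).2.2)) →
      (∀ x y u, x ≠ y → x ≠ u → y ≠ u → let t := σ (x, y, u); t.1 ≠ t.2.1 ∧ t.1 ≠ t.2.2 ∧ t.2.1 ≠ t.2.2) →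
      (∀ x y u, T x y u → let t := σ (x, y, u); T t.1 t.2.1 t.2.2) ∨
      (∀ x y u, x ≠ y → x ≠ u → y ≠ u →
        ((let t := σ (x, y, u); T t.1 t.2.1 t.2.2) ↔ ¬ T x y u)) := by
    intro σ hσσ hσg hσd
    by_cases h : T (σ (a, b, z)).1 (σ (a, b, z)).2.1 (σ (a, b, z)).2.2
    · left
      intro x y u hT
      obtain ⟨g, rfl, rfl, rfl⟩ := hT
      simp only [hσg]
      exact inv g _ _ _ h
    · right
      intro x y u hxy hxu hyu
      constructor
      · intro ht hT
        obtain ⟨g, rfl, rfl, rfl⟩ := hT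
        simp only [hσg] at ht
        exact h (by simpa using inv g⁻¹ _ _ _ ht)
      · intro hT
        obtain ⟨da, db, dc⟩ := hσd a b z hab hza.symm hzb.symm
        obtain ⟨g, g1, g2, g3⟩ := orb' _ _ _ x y u da db dc h hxy hxu hyu hT
        have := hσg g (σ (a, b, z)).1 (σ (a, b, z)).2.1 (σ (a, b, z)).2.2
        rw [g1, g2, g3, hσσ] at this
        simp only [this]
        exact inv g _ _ _ hex
  have s12 : ∀ x y u, T x y u → T y x u := by
    rcases swapcase (fun t => (t.2.1, t.1, t.2.2)) (fun t => rfl) (fun _ _ _ _ => rfl)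
      (fun x y u h1 h2 h3 => ⟨h1.symm, h3, h2⟩) with h | h
    · exact h
    exfalso
    -- the two orbits would have the same length
    obtain ⟨g, gb, ga⟩ := (is_two_pretransitive_iff.1 h2) hab hab.symm
    let A := Finset.univ.filter fun u : Ω => T a b u
    let B := Finset.univ.filter fun u : Ω => u ≠ a ∧ u ≠ b ∧ ¬ T a b u
    have himg : A.map (toPerm g).toEmbedding = B := by
      ext u
      simp only [A, B, Finset.mem_map, Finset.mem_filter, Finset.mem_univ, true_and,
        Equiv.coe_toEmbedding, toPerm_apply]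
      constructor
      · rintro ⟨v, hv, rfl⟩
        have hv' := inv g _ _ _ hv
        rw [gb, ga] at hv'
        obtain ⟨e1, e2, e3⟩ := d hv'
        exact ⟨e3.symm, e2.symm, (h a b _ hab e3 e2).1 hv'⟩
      · rintro ⟨hua, hub, hu⟩
        refine ⟨g⁻¹ • u, ?_, smul_inv_smul g u⟩
        have h4 := inv g⁻¹ _ _ _ ((h a b u hab hua.symm hub.symm).2 hu)
        rwa [show g⁻¹ • b = a by rw [inv_smul_eq_iff, gb], show g⁻¹ • a = b by rw [inv_smul_eq_iff, ga]]
          at h4
    have hcard : A.card = B.card := by rw [← himg, Finset.card_map]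
    have hunion : A ∪ B = (Finset.univ.erase a).erase b := by
      ext u
      simp only [A, B, Finset.mem_union, Finset.mem_filter, Finset.mem_univ, true_and,
        Finset.mem_erase, and_true]
      constructor
      · rintro (hu | ⟨h1, h2, -⟩)
        exacts [⟨(d hu).2.2.symm, (d hu).2.1.symm⟩, ⟨h2, h1⟩]
      · rintro ⟨h2, h1⟩
        exact (em _).imp_right fun hu => ⟨h1, h2, hu⟩
    have hdisj : Disjoint A B := Finset.disjoint_filter.2 fun u _ hu hu' => hu'.2.2 hu
    have hsum := congrArg Finset.card hunion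
    rw [Finset.card_union_of_disjoint hdisj, Finset.card_erase_of_mem (by simp [hab.symm]),
      Finset.card_erase_of_mem (Finset.mem_univ a), Finset.card_univ, ← Nat.card_eq_fintype_card,
      hΩ] at hsum
    obtain ⟨k, hk⟩ := hp.odd_of_ne_two (by omega)
    omega
  have s23 : ∀ x y u, T x y u → T x u y := by
    rcases swapcase (fun t => (t.1, t.2.2, t.2.1)) (fun t => rfl) (fun _ _ _ _ => rfl)
      (fun x y u h1 h2 h3 => ⟨h2, h1, h3.symm⟩) with h | h
    · exact h
    exfalso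
    have s12' : ∀ x y u, T x y u ↔ T y x u := fun x y u => ⟨s12 x y u, s12 y x u⟩
    have n1 : ¬ T a z b := (h a z b hza.symm hab hzb).1 hex
    have n2 : ¬ T z a b := fun hh => n1 ((s12' _ _ _).1 hh)
    have t1 : T z b a := (h z a b hza hzb hab).2 n2
    have t2 : T b a z := (s12' _ _ _).1 hex
    have n3 : ¬ T b z a := (h b z a hzb.symm hab.symm hza).1 t2
    exact n3 ((s12' _ _ _).1 t1)
  exact ⟨{ T := T, inv := fun g {x y u} h => inv g x y u h, ne12 := fun h => (d h).1
           ne13 := fun h => (d h).2.1, ne23 := fun h => (d h).2.2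
           s12 := fun {x y u} h => s12 x y u h, s23 := fun {x y u} h => s23 x y u h
           ex := ⟨a, b, z, hex⟩, ex' := ⟨a, b, z', hab, hza'.symm, hzb'.symm, hex'⟩
           orbit := fun {x y u x' y' u'} => orb x y u x' y' u'
           orbit' := fun {x y u x' y' u'} => orb' x y u x' y' u' }⟩

end Cfsg.Agent.HalfNorm
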