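import Cfsg.Agent.Lib.FGStruct.JordanCycle
import Mathlib.GroupTheory.Subgroup.Centralizer
import Mathlib.GroupTheory.IndexNormal
import Mathlib.GroupTheory.SpecificGroups.Cyclic

/-!
A Sylow subgroup of the pointwise stabiliser of a few points, the few orbits of prime length of it,
and the elements of the normaliser commuting with it.
-/

set_option autoImplicit false
set_option linter.style.haveILetI false
set_option linter.unusedSectionVars false

namespace Cfsg.Agent.HalfNorm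

open MulAction Equiv
open Cfsg.Agent.JordanCycle
open scoped Pointwise commutatorElement

variable {α : Type*} [Fintype α] [DecidableEq α]

/-- An `r`-subgroup fixing exactly `k` given points, without `r`-cycles in the group. -/
structure Sys (G : Subgroup (Perm α)) (r : ℕ) {k : ℕ} (ι : Fin k ↪ α) where
  R : Subgroup (Perm α)
  le : R ≤ fixOn G (Set.range ι)
  pg : IsPGroup r R
  nofix : ∀ z ∉ Set.range ι, ∃ x ∈ R, x z ≠ z
  agree : ∀ τ : Perm (Fin k), ∃ n ∈ G, n ∈ Subgroup.normalizer (R : Set (Perm α)) ∧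
    ∀ i, n (ι i) = ι (τ i)
  small : Fintype.card α - k ≤ 3 * r
  five : 5 ≤ r
  nocycle : ∀ g ∈ G, g.IsCycle → g.support.card ≠ r

theorem exists_sys {G : Subgroup (Perm α)} {r : ℕ} [Fact r.Prime] {k : ℕ} (ι : Fin k ↪ α)
    (hk : IsMultiplyPretransitive G α k) (hk1 : IsMultiplyPretransitive G α (k + 1))
    (hr : r ∣ Fintype.card α - k) (hsmall : Fintype.card α - k ≤ 3 * r) (h5 : 5 ≤ r)
    (hno : ∀ g ∈ G, g.IsCycle → g.support.card ≠ r) : Nonempty (Sys G r ι) := by
  set F := fixOn G (Set.range ι) with hF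
  obtain ⟨P⟩ : Nonempty (Sylow r F) := inferInstance
  have hsn : ∀ (i : Fin k) (z : α), z ∉ Set.range ι → ι i ≠ z := fun i z hz e => hz ⟨i, e⟩
  refine ⟨⟨(P : Subgroup F).map F.subtype, ?_, P.isPGroup'.map F.subtype, fun z hz => ?_, fun τ => ?_,
    hsmall, h5, hno⟩⟩
  · rintro _ ⟨x, -, rfl⟩
    exact x.2
  · by_contra hcon
    simp only [not_exists, not_and, not_not] at hcon
    have hle : (P : Subgroup F) ≤ stabilizer F z := fun x hx => hcon x ⟨x, hx, rfl⟩
    have horb : orbit F z = (Set.range ι)ᶜ := by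
      ext y
      constructor
      · rintro ⟨⟨g, hg⟩, rfl⟩ ⟨i, hi⟩
        refine hz ⟨i, g.injective ?_⟩
        rw [(mem_fixOn.1 hg).2 _ ⟨i, rfl⟩]
        exact hi
      · intro hy
        obtain ⟨⟨g, hg⟩, hgx⟩ := exists_smul_eq G
          (⟨Fin.snoc ι z, Fin.snoc_injective_iff.2 ⟨ι.injective, hz⟩⟩ : Fin (k + 1) ↪ α)
          ⟨Fin.snoc ι y, Fin.snoc_injective_iff.2 ⟨ι.injective, hy⟩⟩
        have hgi : ∀ i : Fin (k + 1), g ((Fin.snoc ι z : Fin (k + 1) → α) i) =
            (Fin.snoc ι y : Fin (k + 1) → α) i := fun i => DFunLike.congr_fun hgx i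
        refine ⟨⟨g, mem_fixOn.2 ⟨hg, ?_⟩⟩, ?_⟩
        · rintro _ ⟨i, rfl⟩
          simpa using hgi i.castSucc
        · show g z = y
          simpa using hgi (Fin.last k)
    have hidx : (stabilizer F z).index = Fintype.card α - k := by
      rw [index_stabilizer, horb, Set.ncard_compl, Set.ncard_range_of_injective ι.injective,
        Nat.card_fin, Nat.card_eq_fintype_card]
    exact P.not_dvd_index (hr.trans (hidx ▸ Subgroup.index_dvd_of_le hle))
  · obtain ⟨⟨h, hh⟩, he⟩ := exists_smul_eq G ι (τ.toEmbedding.trans ι)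
    have hh' : ∀ i, h (ι i) = ι (τ i) := fun i => DFunLike.congr_fun he i
    have hnorm : ∀ x ∈ F, h * x * h⁻¹ ∈ F := by
      intro x hx
      refine mem_fixOn.2 ⟨G.mul_mem (G.mul_mem hh (mem_fixOn.1 hx).1) (G.inv_mem hh), ?_⟩
      rintro _ ⟨i, rfl⟩
      have e : h⁻¹ (ι i) = ι (τ⁻¹ i) := by rw [Perm.inv_eq_iff_eq, hh']; simp
      rw [Perm.mul_apply, Perm.mul_apply, e, (mem_fixOn.1 hx).2 _ ⟨_, rfl⟩, hh']
      simp
    let R' := (P : Subgroup F).map F.subtype
    let R1 := (R'.map (MulAut.conj h).toMonoidHom).subgroupOf F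
    have hR1le : R'.map (MulAut.conj h).toMonoidHom ≤ F := by
      rintro _ ⟨_, ⟨x, -, rfl⟩, rfl⟩
      exact hnorm _ x.2
    have hc1 : Nat.card R1 = r ^ (Nat.card F).factorization r := by
      rw [Nat.card_congr (Subgroup.subgroupOfEquivOfLe hR1le).toEquiv,
        ← Nat.card_congr (Subgroup.equivMapOfInjective _ _ (MulAut.conj h).injective).toEquiv,
        ← Nat.card_congr (Subgroup.equivMapOfInjective _ _ F.subtype_injective).toEquiv,
        P.card_eq_multiplicity]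
    obtain ⟨f, hf⟩ := exists_smul_eq F (Sylow.ofCard R1 hc1) P
    refine ⟨(f : Perm α) * h, G.mul_mem (mem_fixOn.1 f.2).1 hh, ?_, fun i => ?_⟩
    · have hf' := congrArg (fun Q : Sylow r F => (Q : Subgroup F)) hf
      simp only [Sylow.coe_subgroup_smul, Sylow.coe_ofCard] at hf'
      have hfwd : ∀ x ∈ R', (f : Perm α) * h * x * ((f : Perm α) * h)⁻¹ ∈ R' := by
        rintro x hx
        have h1 : (⟨h * x * h⁻¹, hR1le ⟨x, hx, rfl⟩⟩ : F) ∈ R1 := ⟨x, hx, rfl⟩
        refine ⟨f * ⟨h * x * h⁻¹, hR1le ⟨x, hx, rfl⟩⟩ * f⁻¹, ?_, by simp [mul_assoc]⟩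
        rw [← hf']
        exact ⟨_, h1, rfl⟩
      have hcard : Nat.card (R'.map (MulAut.conj ((f : Perm α) * h)).toMonoidHom) = Nat.card R' :=
        (Nat.card_congr (Subgroup.equivMapOfInjective _ _ (MulAut.conj _).injective).toEquiv).symm
      have heq : R'.map (MulAut.conj ((f : Perm α) * h)).toMonoidHom = R' := by
        refine Subgroup.eq_of_le_of_card_ge ?_ hcard.ge
        rintro _ ⟨x, hx, rfl⟩
        exact hfwd x hx
      refine Subgroup.mem_normalizer_iff.2 fun x => ⟨hfwd x, fun hx => ?_⟩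
      obtain ⟨y, hy, hyx⟩ := heq.ge hx
      rwa [(MulAut.conj _).injective hyx] at hy
    · rw [Perm.mul_apply, hh']
      exact (mem_fixOn.1 f.2).2 _ ⟨_, rfl⟩

namespace Sys

variable {G : Subgroup (Perm α)} {r : ℕ} [Fact r.Prime] {k : ℕ} {ι : Fin k ↪ α} (S : Sys G r ι)

theorem fix {x : Perm α} (hx : x ∈ S.R) {z : α} (hz : z ∈ Set.range ι) : x z = z :=
  (mem_fixOn.1 (S.le hx)).2 z hz

theorem out {x : Perm α} (hx : x ∈ S.R) {z : α} (hz : z ∉ Set.range ι) : x z ∉ Set.range ι :=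
  fun h => hz (by have := S.fix hx h; rwa [x.injective this] at h)

/-- An orbit of `R`. -/
noncomputable def cls (z : α) : Finset α := (orbit S.R z).toFinite.toFinset

theorem mem_cls {z y : α} : y ∈ S.cls z ↔ ∃ x ∈ S.R, x z = y := by
  simp only [cls, Set.Finite.mem_toFinset]
  constructor
  · rintro ⟨⟨x, hx⟩, rfl⟩; exact ⟨x, hx, rfl⟩
  · rintro ⟨x, hx, rfl⟩; exact ⟨⟨x, hx⟩, rfl⟩

theorem self_mem (z : α) : z ∈ S.cls z := S.mem_cls.2 ⟨1, S.R.one_mem, rfl⟩

theorem cls_eq {z y : α} (h : y ∈ S.cls z) : S.cls y = S.cls z := by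
  obtain ⟨x, hx, rfl⟩ := S.mem_cls.1 h
  have : orbit S.R ((⟨x, hx⟩ : S.R) • z) = orbit S.R z := orbit_smul _ z
  unfold cls
  exact Set.Finite.toFinset_inj.2 this

theorem cls_out {z y : α} (hz : z ∉ Set.range ι) (h : y ∈ S.cls z) : y ∉ Set.range ι := by
  obtain ⟨x, hx, rfl⟩ := S.mem_cls.1 h
  exact S.out hx hz

theorem card_cls {z : α} (hz : z ∉ Set.range ι) : (S.cls z).card = r := by
  have hr := (Fact.out : r.Prime)
  obtain ⟨j, hj⟩ := S.pg.card_orbit z
  have hc : Nat.card (orbit S.R z) = (S.cls z).card := by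
    rw [Nat.card_coe_set_eq, Set.ncard_eq_toFinset_card _ (orbit S.R z).toFinite]; rfl
  rw [hc] at hj
  rw [hj]
  rcases j with _ | _ | j
  · exfalso
    rw [pow_zero, Finset.card_eq_one] at hj
    obtain ⟨y, hy⟩ := hj
    obtain ⟨x, hx, hxz⟩ := S.nofix z hz
    have h1 := S.self_mem z
    have h2 : x z ∈ S.cls z := S.mem_cls.2 ⟨x, hx, rfl⟩
    rw [hy, Finset.mem_singleton] at h1 h2
    exact hxz (h2.trans h1.symm)
  · simp
  · exfalso
    have hsub : S.cls z ⊆ (Finset.univ.map ι)ᶜ := fun y hy => by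
      have := S.cls_out hz hy
      simpa using this
    have h1 := Finset.card_le_card hsub
    rw [Finset.card_compl, Finset.card_map, Finset.card_univ, Fintype.card_fin, hj] at h1
    have h2 : r * r ≤ r ^ (j + 1 + 1) := by
      rw [← pow_two]; exact Nat.pow_le_pow_right hr.pos (by omega)
    have h3 := S.small
    have h4 : 5 * r ≤ r * r := Nat.mul_le_mul_right r S.five
    have h5 := S.five
    omega

theorem stab_index {z : α} (hz : z ∉ Set.range ι) : (stabilizer S.R z).index = r := by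
  rw [index_stabilizer, Set.ncard_eq_toFinset_card _ (orbit S.R z).toFinite]
  exact S.card_cls hz

theorem stab_normal {z : α} (hz : z ∉ Set.range ι) : (stabilizer S.R z).Normal := by
  have hr := (Fact.out : r.Prime)
  refine Subgroup.normal_of_index_eq_minFac_card ?_
  rw [S.stab_index hz]
  obtain ⟨n, hn⟩ := IsPGroup.iff_card.1 S.pg
  have hdvd : r ∣ Nat.card S.R :=
    dvd_trans (dvd_of_eq (S.stab_index hz).symm) (Subgroup.index_dvd_card _)
  rcases n with _ | n
  · rw [hn, pow_zero] at hdvd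
    exact absurd (Nat.le_of_dvd one_pos hdvd) (not_le.2 hr.one_lt)
  · rw [hn, Nat.pow_minFac (Nat.succ_ne_zero n), hr.minFac_eq]

theorem fix_cls {x : Perm α} (hx : x ∈ S.R) {z y : α} (hz : z ∉ Set.range ι) (hxz : x z = z)
    (hy : y ∈ S.cls z) : x y = y := by
  obtain ⟨u, hu, rfl⟩ := S.mem_cls.1 hy
  have h := (S.stab_normal hz).conj_mem ⟨x, hx⟩ hxz (⟨u, hu⟩ : S.R)⁻¹
  simp only [mem_stabilizer_iff, inv_inv] at h
  change (u⁻¹ * x * u) z = z at h
  rw [Perm.mul_apply, Perm.mul_apply, Perm.inv_eq_iff_eq] at h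
  exact h

/-- Two elements agreeing at a point agree on its class. -/
theorem agree_cls {x x' : Perm α} (hx : x ∈ S.R) (hx' : x' ∈ S.R) {z y : α} (hz : z ∉ Set.range ι)
    (h : x z = x' z) (hy : y ∈ S.cls z) : x y = x' y := by
  have := S.fix_cls (S.R.mul_mem (S.R.inv_mem hx') hx) hz
    (by rw [Perm.mul_apply, h]; exact x'.inv_eq_iff_eq.2 rfl) hy
  rw [Perm.mul_apply, Perm.inv_eq_iff_eq] at this
  exact this

theorem rep {w : Perm α} (hw : w ∈ S.R) {z : α} (hz : z ∉ Set.range ι) (hwz : w z ≠ z) {x : Perm α}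
    (hx : x ∈ S.R) : ∃ j : ℕ, x z = (w ^ j) z := by
  let Z := Subgroup.zpowers w
  have hZ : IsPGroup r Z := S.pg.to_le (Subgroup.zpowers_le.2 hw)
  have hsub : orbit Z z ⊆ orbit S.R z := by
    rintro _ ⟨⟨u, hu⟩, rfl⟩
    exact ⟨⟨u, Subgroup.zpowers_le.2 hw hu⟩, rfl⟩
  have hR : (orbit S.R z).ncard = r := by rw [← index_stabilizer, S.stab_index hz]
  have hZc : r ≤ (orbit Z z).ncard := by
    obtain ⟨j, hj⟩ := hZ.card_orbit z
    rw [Nat.card_coe_set_eq] at hj
    rw [hj]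
    refine Nat.le_self_pow (fun h0 => hwz ?_) r
    rw [h0, pow_zero, Set.ncard_eq_one] at hj
    obtain ⟨y, hy⟩ := hj
    have h1 : w z ∈ orbit Z z := ⟨⟨w, Subgroup.mem_zpowers w⟩, rfl⟩
    have h2 := mem_orbit_self (M := Z) z
    rw [hy, Set.mem_singleton_iff] at h1 h2
    exact h1.trans h2.symm
  have heq := Set.eq_of_subset_of_ncard_le hsub (hR.trans_le hZc) (orbit S.R z).toFinite
  obtain ⟨⟨u, hu⟩, hu'⟩ := heq.ge (⟨⟨x, hx⟩, rfl⟩ : x z ∈ orbit S.R z)
  obtain ⟨j, rfl⟩ := mem_powers_iff_mem_zpowers.2 hu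
  exact ⟨j, hu'.symm⟩

theorem comm {x y : Perm α} (hx : x ∈ S.R) (hy : y ∈ S.R) : x * y = y * x := by
  ext z
  simp only [Perm.mul_apply]
  by_cases hz : z ∈ Set.range ι
  · rw [S.fix hy hz, S.fix hx hz, S.fix hy hz]
  obtain ⟨w, hw, hwz⟩ := S.nofix z hz
  obtain ⟨i, hi⟩ := S.rep hw hz hwz hx
  obtain ⟨j, hj⟩ := S.rep hw hz hwz hy
  have hmem : ∀ {u}, u ∈ S.R → u z ∈ S.cls z := fun hu => S.mem_cls.2 ⟨_, hu, rfl⟩
  rw [S.agree_cls hx (S.R.pow_mem hw i) hz hi (hmem hy), hj,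
    S.agree_cls hy (S.R.pow_mem hw j) hz hj (hmem hx), hi, ← Perm.mul_apply, ← Perm.mul_apply,
    ← pow_add, ← pow_add, add_comm]

theorem pow_prime {x : Perm α} (hx : x ∈ S.R) : x ^ r = 1 := by
  ext z
  by_cases hz : z ∈ Set.range ι
  · exact S.fix (S.R.pow_mem hx r) hz
  haveI := S.stab_normal hz
  have h := Subgroup.pow_index_mem (stabilizer S.R z) ⟨x, hx⟩
  rw [S.stab_index hz] at h
  exact h

theorem agree_pow {x x' : Perm α} (hx : x ∈ S.R) (hx' : x' ∈ S.R) {z : α} (hz : z ∉ Set.range ι)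
    (h : x z = x' z) (m : ℕ) : (x ^ m) z = (x' ^ m) z := by
  induction m with
  | zero => rfl
  | succ m ih =>
    rw [pow_succ', pow_succ', Perm.mul_apply, Perm.mul_apply, ih]
    exact S.agree_cls hx hx' hz h (S.mem_cls.2 ⟨_, S.R.pow_mem hx' m, rfl⟩)

theorem eq_one_of_support {x : Perm α} (hx : x ∈ S.R) (h : x.support.card < 2 * r) : x = 1 := by
  by_contra h1
  have ho : orderOf x = r := orderOf_eq_prime (S.pow_prime hx) h1
  have hc := Perm.isCycle_of_prime_order (ho ▸ (Fact.out : r.Prime)) (by rw [ho]; exact h)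
  exact S.nocycle x (mem_fixOn.1 (S.le hx)).1 hc (hc.orderOf.symm.trans ho)

theorem eq_one_of_fix_one {x : Perm α} (hx : x ∈ S.R) {z : α} (hz : z ∉ Set.range ι) (hxz : x z = z)
    (htot : Fintype.card α - k < 3 * r) : x = 1 := by
  refine S.eq_one_of_support hx ?_
  have hsub : x.support ⊆ (Finset.univ.map ι)ᶜ \ S.cls z := by
    intro y hy
    rw [Perm.mem_support] at hy
    simp only [Finset.mem_sdiff, Finset.mem_compl, Finset.mem_map, Finset.mem_univ, true_and]
    exact ⟨fun ⟨i, hi⟩ => hy (S.fix hx ⟨i, hi⟩), fun hc => hy (S.fix_cls hx hz hxz hc)⟩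
  have h1 := Finset.card_le_card hsub
  rw [Finset.card_sdiff_of_subset (fun y hy => by have := S.cls_out hz hy; simpa using this),
    Finset.card_compl, Finset.card_map, Finset.card_univ, Fintype.card_fin, S.card_cls hz] at h1
  omega

theorem eq_one_of_fix_two {x : Perm α} (hx : x ∈ S.R) {z z' : α} (hz : z ∉ Set.range ι)
    (hz' : z' ∉ Set.range ι) (hne : z' ∉ S.cls z) (hxz : x z = z) (hxz' : x z' = z') : x = 1 := by
  refine S.eq_one_of_support hx ?_
  have hsub : x.support ⊆ (Finset.univ.map ι)ᶜ \ (S.cls z ∪ S.cls z') := by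
    intro y hy
    rw [Perm.mem_support] at hy
    simp only [Finset.mem_sdiff, Finset.mem_compl, Finset.mem_map, Finset.mem_univ, true_and,
      Finset.mem_union, not_or]
    exact ⟨fun ⟨i, hi⟩ => hy (S.fix hx ⟨i, hi⟩), fun hc => hy (S.fix_cls hx hz hxz hc),
      fun hc => hy (S.fix_cls hx hz' hxz' hc)⟩
  have hd : Disjoint (S.cls z) (S.cls z') := Finset.disjoint_left.2 fun y hy hy' =>
    hne (by rw [← S.cls_eq hy, S.cls_eq hy']; exact S.self_mem z')
  have h1 := Finset.card_le_card hsub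
  rw [Finset.card_sdiff_of_subset, Finset.card_compl, Finset.card_map, Finset.card_univ,
    Fintype.card_fin, Finset.card_union_of_disjoint hd, S.card_cls hz, S.card_cls hz'] at h1
  · have := S.small
    have := S.five
    omega
  · intro y hy
    rcases Finset.mem_union.1 hy with h | h
    · simpa using S.cls_out hz h
    · simpa using S.cls_out hz' h

/-- The normaliser of `R`. -/
abbrev N := Subgroup.normalizer (S.R : Set (Perm α))

/-- Its action on `R`. -/
noncomputable abbrev act : S.N →* MulAut S.R := Subgroup.normalizerMonoidHom S.R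

theorem act_val (n : S.N) (x : S.R) : ((S.act n x : S.R) : Perm α) = n * x * (n : Perm α)⁻¹ := rfl

theorem conj_mem (n : S.N) {x : Perm α} (hx : x ∈ S.R) : (n : Perm α) * x * (n : Perm α)⁻¹ ∈ S.R :=
  (Subgroup.mem_normalizer_iff.1 n.2 x).1 hx

theorem n_out (n : S.N) {z : α} (hz : z ∉ Set.range ι) : (n : Perm α) z ∉ Set.range ι := by
  intro h
  obtain ⟨x, hx, hxz⟩ := S.nofix z hz
  have := S.fix (S.conj_mem n hx) h
  rw [Perm.mul_apply, Perm.mul_apply, Perm.inv_eq_iff_eq.2 rfl] at this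
  exact hxz ((n : Perm α).injective this)

theorem image_cls (n : S.N) (z : α) : (S.cls z).image (n : Perm α) = S.cls ((n : Perm α) z) := by
  ext y
  simp only [Finset.mem_image, S.mem_cls]
  constructor
  · rintro ⟨_, ⟨x, hx, rfl⟩, rfl⟩
    exact ⟨_, S.conj_mem n hx, by simp⟩
  · rintro ⟨x, hx, rfl⟩
    refine ⟨_, ⟨_, S.conj_mem n⁻¹ hx, rfl⟩, ?_⟩
    simp

/-- The classes. -/
abbrev Cls := {O : Finset α // ∃ z ∉ Set.range ι, S.cls z = O}

/-- The image of a class. -/
noncomputable def move (n : S.N) (O : S.Cls) : S.Cls :=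
  ⟨O.1.image (n : Perm α), by
    obtain ⟨z, hz, h⟩ := O.2
    exact ⟨_, S.n_out n hz, by rw [← h, S.image_cls]⟩⟩

theorem move_mul (n m : S.N) (O : S.Cls) : S.move (n * m) O = S.move n (S.move m O) :=
  Subtype.ext (by simp only [move, Finset.image_image]; rfl)

theorem move_one (O : S.Cls) : S.move 1 O = O := Subtype.ext (by simp [move])

/-- The action on the classes. -/
noncomputable def perm : S.N →* Perm S.Cls :=
  MonoidHom.mk' (fun n => ⟨S.move n, S.move n⁻¹,
      fun O => by rw [← S.move_mul, inv_mul_cancel, S.move_one],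
      fun O => by rw [← S.move_mul, mul_inv_cancel, S.move_one]⟩)
    (fun n m => Equiv.ext (S.move_mul n m))

theorem mem_cls_of_perm_eq_one {n : S.N} (h : S.perm n = 1) {z : α} (hz : z ∉ Set.range ι) :
    (n : Perm α) z ∈ S.cls z := by
  have := congrArg Subtype.val (Equiv.ext_iff.1 h ⟨S.cls z, z, hz, rfl⟩)
  simp only [perm, MonoidHom.mk'_apply, Equiv.coe_fn_mk, move, Perm.one_apply] at this
  rw [← this]
  exact Finset.mem_image.2 ⟨z, S.self_mem z, rfl⟩

theorem card_Cls : Nat.card S.Cls * r = Fintype.card α - k := by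
  classical
  let T := (Finset.univ.map ι)ᶜ
  have hT : ∀ {z}, z ∈ T ↔ z ∉ Set.range ι := fun {z} => by simp [T]
  have e : Nat.card S.Cls = (T.image S.cls).card := by
    rw [← Fintype.card_coe, ← Nat.card_eq_fintype_card]
    exact Nat.card_congr (Equiv.subtypeEquivRight fun O => by simp [hT])
  have hu : (T.image S.cls).biUnion id = T := by
    ext y
    simp only [Finset.mem_biUnion, Finset.mem_image, id_eq]
    constructor
    · rintro ⟨_, ⟨z, hz, rfl⟩, hy⟩
      exact hT.2 (S.cls_out (hT.1 hz) hy)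
    · exact fun hy => ⟨_, ⟨y, hy, rfl⟩, S.self_mem y⟩
  have hd : ((T.image S.cls : Finset (Finset α)) : Set (Finset α)).PairwiseDisjoint id := by
    intro O hO O' hO' hne
    simp only [Finset.coe_image, Set.mem_image, Finset.mem_coe] at hO hO'
    obtain ⟨z, -, rfl⟩ := hO
    obtain ⟨z', -, rfl⟩ := hO'
    exact Finset.disjoint_left.2 fun y hy hy' => hne (by rw [← S.cls_eq hy, S.cls_eq hy'])
  have := Finset.card_biUnion hd
  rw [hu, Finset.sum_const_nat (m := r) (fun O hO => by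
    obtain ⟨z, hz, rfl⟩ := Finset.mem_image.1 hO
    exact S.card_cls (hT.1 hz))] at this
  rw [e, ← this, Finset.card_compl, Finset.card_map, Finset.card_univ, Fintype.card_fin]

/-- An element fixing every class acts on `R` as a power map. -/
theorem scalar {n : S.N} (hn : S.perm n = 1) : ∃ m : ℕ, ∀ x : S.R, S.act n x = x ^ m := by
  by_cases hne : ∀ z, z ∈ Set.range ι
  · refine ⟨1, fun x => Subtype.ext (Equiv.ext fun z => ?_)⟩
    rw [pow_one]
    exact (S.fix (S.act n x).2 (hne z)).trans (S.fix x.2 (hne z)).symm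
  simp only [not_forall] at hne
  obtain ⟨z, hz⟩ := hne
  obtain ⟨w, hw, hwz⟩ := S.nofix z hz
  let c : Perm α → Perm α := fun x => (n : Perm α) * x * (n : Perm α)⁻¹
  have cmul : ∀ x y, c (x * y) = c x * c y := fun x y => by simp [c, mul_assoc]
  have cmem : ∀ {x}, x ∈ S.R → c x ∈ S.R := fun hx => S.conj_mem n hx
  have cpow : ∀ x (i : ℕ), c (x ^ i) = c x ^ i := fun x i => (conj_pow).symm
  have cfix : ∀ {y a}, a ∈ S.R → y ∉ Set.range ι → a y = y → c a y = y := by
    intro y a ha hy hay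
    have hm := S.mem_cls_of_perm_eq_one hn hy
    refine S.fix_cls (cmem ha) (S.n_out n hy) (by simp [c, hay]) ?_
    rw [S.cls_eq hm]
    exact S.self_mem y
  obtain ⟨m, hm⟩ := S.rep hw hz hwz (cmem hw)
  -- agreement at one point propagates
  have spread : ∀ {y u}, u ∈ S.R → y ∉ Set.range ι → u y ≠ y → c u y = (u ^ m) y →
      ∀ x ∈ S.R, c x y = (x ^ m) y := by
    intro y u hu hy huy hcu x hx
    obtain ⟨j, hj⟩ := S.rep hu hy huy hx
    obtain ⟨a, ha, rfl⟩ : ∃ a ∈ S.R, x = u ^ j * a :=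
      ⟨(u ^ j)⁻¹ * x, S.R.mul_mem (S.R.inv_mem (S.R.pow_mem hu j)) hx, by simp⟩
    have hay : a y = y := (u ^ j).injective (by rw [← Perm.mul_apply]; exact hj)
    rw [cmul, Perm.mul_apply, cfix ha hy hay, cpow,
      S.agree_pow (cmem hu) (S.R.pow_mem hu m) hy hcu j,
      S.agree_pow hx (S.R.pow_mem hu j) hy hj m, ← pow_mul, ← pow_mul, mul_comm]
  have h0 := spread hw hz hwz hm
  refine ⟨m, fun x => Subtype.ext (Equiv.ext fun y => ?_)⟩
  show c x y = ((x : Perm α) ^ m) y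
  by_cases hy : y ∈ Set.range ι
  · rw [S.fix (cmem x.2) hy, S.fix (S.R.pow_mem x.2 m) hy]
  by_cases hyz : y ∈ S.cls z
  · exact S.agree_cls (cmem x.2) (S.R.pow_mem x.2 m) hz (h0 x x.2) hyz
  by_cases htriv : ∀ a ∈ S.R, a z = z → a = 1
  · have hd : (((x : Perm α) ^ m)⁻¹ * c x) = 1 :=
      htriv _ (S.R.mul_mem (S.R.inv_mem (S.R.pow_mem x.2 m)) (cmem x.2))
        (by rw [Perm.mul_apply, h0 x x.2, Perm.inv_eq_iff_eq.2 rfl])
    rw [← inv_mul_eq_one.1 hd]
  simp only [not_forall] at htriv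
  obtain ⟨a, ha, haz, ha1⟩ := htriv
  -- an element fixing a third class
  obtain ⟨v, hv⟩ : ∃ v, v ∉ Set.range ι ∧ v ∉ S.cls z ∧ v ∉ S.cls y := by
    by_contra hcon
    simp only [not_exists, not_and, not_not] at hcon
    refine ha1 (S.eq_one_of_support ha ?_)
    have : a.support ⊆ S.cls y := fun v hv => by
      rw [Perm.mem_support] at hv
      exact hcon v (fun h => hv (S.fix ha h)) (fun h => hv (S.fix_cls ha hz haz h))
    have := Finset.card_le_card this
    rw [S.card_cls hy] at this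
    have := S.five
    omega
  have hav : a v ≠ v := fun h => ha1 (S.eq_one_of_fix_two ha hz hv.1 hv.2.1 haz h)
  obtain ⟨j, hj⟩ := S.rep ha hv.1 hav hw
  let u := (a ^ j)⁻¹ * w
  have hu : u ∈ S.R := S.R.mul_mem (S.R.inv_mem (S.R.pow_mem ha j)) hw
  have huv : u v = v := by rw [Perm.mul_apply, hj, Perm.inv_eq_iff_eq.2 rfl]
  have huy : u y ≠ y := by
    intro h
    have h1 : u = 1 := S.eq_one_of_fix_two hu hy hv.1 hv.2.2 h huv
    refine hwz ?_
    rw [← inv_mul_eq_one.1 h1]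
    exact Perm.pow_apply_eq_self_of_apply_eq_self haz j
  refine spread hu hy huy ?_ x x.2
  have hd : (u ^ m)⁻¹ * c u = 1 := by
    refine S.eq_one_of_fix_two (S.R.mul_mem (S.R.inv_mem (S.R.pow_mem hu m)) (cmem hu)) hz hv.1
      hv.2.1 ?_ ?_
    · rw [Perm.mul_apply, h0 u hu, Perm.inv_eq_iff_eq.2 rfl]
    · rw [Perm.mul_apply, cfix hu hv.1 huv, Perm.inv_eq_iff_eq,
        Perm.pow_apply_eq_self_of_apply_eq_self huv m]
  rw [← inv_mul_eq_one.1 hd]

theorem scalar_commute {n : S.N} {m : ℕ} (h : ∀ x : S.R, S.act n x = x ^ m) (n' : S.N) :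
    Commute (S.act n) (S.act n') := by
  refine MulEquiv.ext fun x => ?_
  rw [MulAut.mul_apply, MulAut.mul_apply, h, h, map_pow]

/-- An element centralising `R` and fixing the classes has `r`-th power fixing all moved points. -/
theorem pow_fix {e : S.N} (hc : S.act e = 1) (hp : S.perm e = 1) {z : α} (hz : z ∉ Set.range ι) :
    ((e : Perm α) ^ r) z = z := by
  obtain ⟨y, hy, hyz⟩ := S.mem_cls.1 (S.mem_cls_of_perm_eq_one hp hz)
  have hcom : Commute (e : Perm α) y := by
    have := congrArg Subtype.val (DFunLike.congr_fun hc ⟨y, hy⟩)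
    rw [S.act_val] at this
    exact mul_inv_eq_iff_eq_mul.1 this
  have : ∀ j : ℕ, ((e : Perm α) ^ j) z = (y ^ j) z := by
    intro j
    induction j with
    | zero => rfl
    | succ j ih =>
      rw [pow_succ', Perm.mul_apply, ih, ← Perm.mul_apply, (hcom.pow_right j).eq, Perm.mul_apply,
        ← hyz, pow_succ, Perm.mul_apply]
  rw [this, S.pow_prime hy, Perm.one_apply]

/-- Lifting a permutation of the fixed points into the normaliser. -/
theorem lift (τ : Perm (Fin k)) : ∃ n : S.N, (n : Perm α) ∈ G ∧ ∀ i, (n : Perm α) (ι i) = ι (τ i) := by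
  obtain ⟨n, hn, hN, h⟩ := S.agree τ
  exact ⟨⟨n, hN⟩, hn, h⟩

theorem agree_commutator {n n' : Perm α} {τ τ' : Perm (Fin k)} (h : ∀ i, n (ι i) = ι (τ i))
    (h' : ∀ i, n' (ι i) = ι (τ' i)) (i : Fin k) : ⁅n, n'⁆ (ι i) = ι (⁅τ, τ'⁆ i) := by
  have inv : ∀ {n : Perm α} {τ : Perm (Fin k)}, (∀ i, n (ι i) = ι (τ i)) →
      ∀ i, n⁻¹ (ι i) = ι (τ⁻¹ i) := fun h i => by rw [Perm.inv_eq_iff_eq, h]; simp
  rw [commutatorElement_def, commutatorElement_def]
  simp only [Perm.mul_apply]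
  rw [inv h', inv h, h', h]

theorem agree_pow' {n : Perm α} {τ : Perm (Fin k)} (h : ∀ i, n (ι i) = ι (τ i)) (j : ℕ) (i : Fin k) :
    (n ^ j) (ι i) = ι ((τ ^ j) i) := by
  induction j generalizing i with
  | zero => rfl
  | succ j ih => rw [pow_succ, Perm.mul_apply, h, ih, pow_succ, Perm.mul_apply]

/-- Two classes: a `3`-cycle. -/
theorem exists_two {G : Subgroup (Perm α)} {r : ℕ} [Fact r.Prime] {ι : Fin 3 ↪ α} (S : Sys G r ι)
    (htot : Fintype.card α - 3 = 2 * r) : ∃ g ∈ G, g.IsThreeCycle := by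
  classical
  have hr := (Fact.out : r.Prime)
  have h5 := S.five
  have hC : Nat.card S.Cls = 2 := Nat.eq_of_mul_eq_mul_right hr.pos (S.card_Cls.trans htot)
  haveI : IsCyclic (Perm S.Cls) :=
    isCyclic_of_prime_card (p := 2) (by rw [Nat.card_perm, hC]; rfl)
  obtain ⟨n1, hn1, ha1⟩ := S.lift (swap 0 1)
  obtain ⟨n2, hn2, ha2⟩ := S.lift (swap 0 2)
  have hperm : S.perm ⁅n1, n2⁆ = 1 := by
    rw [map_commutatorElement, commutatorElement_eq_one_iff_mul_comm, mul_comm']
  -- `R` is cyclic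
  have hR : ∀ (n : S.N), ∃ m : ℕ, ∀ x : S.R, S.act n x = x ^ m := by
    intro n
    obtain ⟨z, hz⟩ : ∃ z, z ∉ Set.range ι := by
      by_contra hcon
      simp only [not_exists, not_not] at hcon
      have := Fintype.card_le_of_surjective ι hcon
      rw [Fintype.card_fin] at this
      omega
    obtain ⟨w, hw, hwz⟩ := S.nofix z hz
    have gen : ∀ x ∈ S.R, ∃ i : ℕ, x = w ^ i := by
      intro x hx
      obtain ⟨i, hi⟩ := S.rep hw hz hwz hx
      refine ⟨i, (inv_mul_eq_one.1 (S.eq_one_of_fix_one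
        (S.R.mul_mem (S.R.inv_mem (S.R.pow_mem hw i)) hx) hz
        (by rw [Perm.mul_apply, hi, Perm.inv_eq_iff_eq.2 rfl]) (by omega))).symm⟩
    obtain ⟨m, hm⟩ := gen _ (S.conj_mem n hw)
    refine ⟨m, fun x => ?_⟩
    obtain ⟨i, hi⟩ := gen x x.2
    rw [show x = (⟨w, hw⟩ : S.R) ^ i from Subtype.ext hi, map_pow,
      show S.act n ⟨w, hw⟩ = ⟨w, hw⟩ ^ m from Subtype.ext hm, ← pow_mul, ← pow_mul, mul_comm]
  obtain ⟨m, hm⟩ := hR n1
  have hact : S.act ⁅n1, n2⁆ = 1 := by
    rw [map_commutatorElement, commutatorElement_eq_one_iff_mul_comm]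
    exact S.scalar_commute hm n2
  refine ⟨((⁅n1, n2⁆ : S.N) : Perm α) ^ r, G.pow_mem ?_ r, ?_⟩
  · simp only [commutatorElement_def, Subgroup.coe_mul, Subgroup.coe_inv]
    exact G.mul_mem (G.mul_mem (G.mul_mem hn1 hn2) (G.inv_mem hn1)) (G.inv_mem hn2)
  rw [← _root_.card_support_eq_three_iff]
  have hag : ∀ i, (((⁅n1, n2⁆ : S.N) : Perm α) ^ r) (ι i) =
      ι ((⁅(swap 0 1 : Perm (Fin 3)), (swap 0 2 : Perm (Fin 3))⁆ ^ r : Perm (Fin 3)) i) := fun i => by
    refine agree_pow' (fun i => ?_) r i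
    rw [show (((⁅n1, n2⁆ : S.N)) : Perm α) = ⁅(n1 : Perm α), (n2 : Perm α)⁆ from rfl]
    exact agree_commutator ha1 ha2 i
  have hmod : r % 3 = 1 ∨ r % 3 = 2 := by
    rcases (show r % 3 = 0 ∨ r % 3 = 1 ∨ r % 3 = 2 by omega) with h | h
    · have := (Nat.prime_dvd_prime_iff_eq Nat.prime_three hr).1 (Nat.dvd_of_mod_eq_zero h)
      omega
    · exact h
  have hne : ∀ i, (⁅(swap 0 1 : Perm (Fin 3)), (swap 0 2 : Perm (Fin 3))⁆ ^ r : Perm (Fin 3)) i ≠ i := by
    have h3 : (⁅(swap 0 1 : Perm (Fin 3)), (swap 0 2 : Perm (Fin 3))⁆ : Perm (Fin 3)) ^ 3 = 1 := by decide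
    rw [pow_eq_pow_mod r h3]
    rcases hmod with h | h <;> rw [h] <;> decide
  have hsupp : (((⁅n1, n2⁆ : S.N) : Perm α) ^ r).support = Finset.univ.map ι := by
    ext z
    simp only [Perm.mem_support, Finset.mem_map, Finset.mem_univ, true_and]
    refine ⟨fun h => ?_, ?_⟩
    · by_contra hz
      exact h (S.pow_fix hact hperm fun ⟨i, hi⟩ => hz ⟨i, hi⟩)
    · rintro ⟨i, rfl⟩
      rw [hag]
      exact ι.injective.ne (hne i)
  rw [hsupp, Finset.card_map, Finset.card_univ, Fintype.card_fin]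

/-- Three classes: a `3`-cycle. -/
theorem exists_three {G : Subgroup (Perm α)} {r : ℕ} [Fact r.Prime] {ι : Fin 4 ↪ α} (S : Sys G r ι)
    (h4 : IsMultiplyPretransitive G α 4) (htot : Fintype.card α - 4 = 3 * r) :
    ∃ g ∈ G, g.IsThreeCycle := by
  classical
  have hr := (Fact.out : r.Prime)
  have h5 := S.five
  have hC : Nat.card S.Cls = 3 := Nat.eq_of_mul_eq_mul_right hr.pos (S.card_Cls.trans htot)
  haveI := Fintype.ofFinite S.Cls
  haveI : Nontrivial S.Cls := Finite.one_lt_card_iff_nontrivial.1 (by omega)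
  have hA : Nat.card (alternatingGroup S.Cls) = 3 := by
    have h := two_mul_card_alternatingGroup (α := S.Cls)
    rw [Fintype.card_perm, ← Nat.card_eq_fintype_card (α := S.Cls), hC,
      ← Nat.card_eq_fintype_card] at h
    simp [Nat.factorial] at h ⊢
    omega
  have halt : ∀ n n' : S.N, S.perm ⁅n, n'⁆ ∈ alternatingGroup S.Cls := by
    intro n n'
    rw [Perm.mem_alternatingGroup, map_commutatorElement, map_commutatorElement,
      commutatorElement_eq_one_iff_mul_comm, mul_comm]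
  -- elements acting evenly on the classes commute on `R`
  have key : ∀ m m' : S.N, S.perm m ∈ alternatingGroup S.Cls → S.perm m' ∈ alternatingGroup S.Cls →
      S.perm ⁅m, m'⁆ = 1 ∧ S.act ⁅m, m'⁆ = 1 := by
    intro m m' hm hm'
    simp only [map_commutatorElement, commutatorElement_eq_one_iff_mul_comm]
    by_cases h1 : S.perm m = 1
    · obtain ⟨j, hj⟩ := S.scalar h1
      exact ⟨by rw [h1, one_mul, mul_one], S.scalar_commute hj m'⟩
    haveI : Fact (Nat.Prime 3) := ⟨Nat.prime_three⟩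
    have hgen : (⟨S.perm m', hm'⟩ : alternatingGroup S.Cls) ∈
        Subgroup.zpowers (⟨S.perm m, hm⟩ : alternatingGroup S.Cls) :=
      mem_zpowers_of_prime_card hA (fun e => h1 (congrArg Subtype.val e))
    obtain ⟨i, hi⟩ := hgen
    have hi' : S.perm m ^ i = S.perm m' := congrArg Subtype.val hi
    have hl : S.perm ((m ^ i)⁻¹ * m') = 1 := by rw [map_mul, map_inv, map_zpow, hi', inv_mul_cancel]
    obtain ⟨j, hj⟩ := S.scalar hl
    have hm'e : m' = m ^ i * ((m ^ i)⁻¹ * m') := (mul_inv_cancel_left _ _).symm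
    constructor
    · rw [← hi']; exact (Commute.self_zpow _ i).eq
    · rw [hm'e, map_mul, map_zpow]
      exact ((Commute.self_zpow _ i).mul_right (S.scalar_commute hj m).symm).eq
  obtain ⟨n1, hn1, ha1⟩ := S.lift (swap 0 1)
  obtain ⟨n2, hn2, ha2⟩ := S.lift (swap 0 2)
  obtain ⟨n3, hn3, ha3⟩ := S.lift (swap 0 3)
  obtain ⟨hperm, hact⟩ := key ⁅n1, n2⁆ ⁅n1, n3⁆ (halt _ _) (halt _ _)
  set e : S.N := ⁅⁅n1, n2⁆, ⁅n1, n3⁆⁆ with he
  have heG : (e : Perm α) ∈ G := by
    simp only [he, commutatorElement_def, Subgroup.coe_mul, Subgroup.coe_inv]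
    repeat' first | assumption | apply G.mul_mem | apply G.inv_mem
  set δ : Perm (Fin 4) := ⁅⁅(swap 0 1 : Perm (Fin 4)), (swap 0 2 : Perm (Fin 4))⁆,
    ⁅(swap 0 1 : Perm (Fin 4)), (swap 0 3 : Perm (Fin 4))⁆⁆ with hδ
  have hδr : δ ^ r = swap 0 1 * swap 2 3 := by
    have c2 : ⁅(swap 0 1 : Perm (Fin 4)), (swap 0 2 : Perm (Fin 4))⁆ = swap 0 1 * swap 1 2 := by decide
    have c3 : ⁅(swap 0 1 : Perm (Fin 4)), (swap 0 3 : Perm (Fin 4))⁆ = swap 0 1 * swap 1 3 := by decide
    have hδ' : δ = swap 0 1 * swap 2 3 := by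
      rw [hδ, c2, c3]; decide +kernel
    have h2 : δ ^ 2 = 1 := by rw [hδ']; decide +kernel
    have h1 : r % 2 = 1 := Nat.odd_iff.1 (hr.odd_of_ne_two (by omega))
    rw [pow_eq_pow_mod r h2, h1, pow_one, hδ']
  have hag : ∀ i, ((e : Perm α) ^ r) (ι i) = ι ((swap 0 1 * swap 2 3 : Perm (Fin 4)) i) := fun i => by
    rw [← hδr]
    refine agree_pow' (fun i => ?_) r i
    rw [show (e : Perm α) = ⁅⁅(n1 : Perm α), (n2 : Perm α)⁆, ⁅(n1 : Perm α), (n3 : Perm α)⁆⁆ from rfl]
    exact agree_commutator (fun i => agree_commutator ha1 ha2 i) (fun i => agree_commutator ha1 ha3 i) i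
  have hne : ∀ i j, i ≠ j → ι i ≠ ι j := fun i j h => ι.injective.ne h
  set a := ι 0 with ea
  set b := ι 1 with eb
  set c := ι 2 with ec
  set d := ι 3 with ed
  have hg : (e : Perm α) ^ r = swap a b * swap c d := by
    ext z
    by_cases hz : z ∈ Set.range ι
    · obtain ⟨i, rfl⟩ := hz
      rw [hag, ea, eb, ec, ed, Perm.mul_apply, Perm.mul_apply, ← ι.injective.map_swap,
        ← ι.injective.map_swap]
    · rw [S.pow_fix hact hperm hz, Perm.mul_apply]
      have : ∀ i, z ≠ ι i := fun i h => hz ⟨i, h.symm⟩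
      rw [swap_apply_of_ne_of_ne (this 2) (this 3), swap_apply_of_ne_of_ne (this 0) (this 1)]
  -- a further point
  obtain ⟨f, hf⟩ : ∃ f, f ∉ Set.range ι := by
    by_contra hcon
    simp only [not_exists, not_not] at hcon
    have := Fintype.card_le_of_surjective ι hcon
    rw [Fintype.card_fin] at this
    omega
  have hfne : ∀ i, f ≠ ι i := fun i h => hf ⟨i, h.symm⟩
  obtain ⟨⟨h, hhG⟩, hh⟩ := exists_smul_eq G ι
    (⟨![a, b, c, f], fun i j => by
      fin_cases i <;> fin_cases j <;>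
        simp [ea, eb, ec, hfne, fun i => (hfne i).symm, ι.injective.eq_iff]⟩ : Fin 4 ↪ α)
  have e0 : h a = a := DFunLike.congr_fun hh 0
  have e1 : h b = b := DFunLike.congr_fun hh 1
  have e2 : h c = c := DFunLike.congr_fun hh 2
  have e3 : h d = f := DFunLike.congr_fun hh 3
  have hg' : h * (swap a b * swap c d) * h⁻¹ = swap a b * swap c f := by
    rw [show h * (swap a b * swap c d) * h⁻¹ = (h * swap a b * h⁻¹) * (h * swap c d * h⁻¹) by group,
      ← swap_apply_apply, ← swap_apply_apply, e0, e1, e2, e3]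
  have hmem : swap a b * swap c d ∈ G := hg ▸ G.pow_mem heG r
  refine ⟨(swap a b * swap c d) * (swap a b * swap c f),
    G.mul_mem hmem (hg' ▸ G.mul_mem (G.mul_mem hhG hmem) (G.inv_mem hhG)), ?_⟩
  have hcd : Commute (swap a b) (swap c d) := (Perm.disjoint_iff_eq_or_eq.2 fun z => by
    by_cases hza : z = a
    · right; subst hza; exact swap_apply_of_ne_of_ne (hne 0 2 (by decide)) (hne 0 3 (by decide))
    by_cases hzb : z = b
    · right; subst hzb; exact swap_apply_of_ne_of_ne (hne 1 2 (by decide)) (hne 1 3 (by decide))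
    exact Or.inl (swap_apply_of_ne_of_ne hza hzb)).commute
  rw [hcd.eq, mul_assoc, ← mul_assoc (swap a b), swap_mul_self, one_mul]
  exact Perm.isThreeCycle_swap_mul_swap_same (hne 2 3 (by decide)) (hfne 2).symm (hfne 3).symm

end Sys

end Cfsg.Agent.HalfNorm
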