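import Mathlib.Algebra.MonoidAlgebra.Basic
import Mathlib.Algebra.CharP.Lemmas
import Mathlib.FieldTheory.Finite.Basic
import Mathlib.GroupTheory.SpecificGroups.Cyclic
import Mathlib.NumberTheory.LSeries.PrimesInAP
import Mathlib.Tactic.LinearCombination

/-!
Strongly regular Cayley graphs of a dihedral group of order `2 m`, `m` odd: an elementary proof that
the graph or its complement is a union of cliques or has twins.
-/

set_option autoImplicit false
set_option linter.style.haveILetI false
set_option linter.unusedSectionVars false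

namespace Cfsg.Agent.CyclicSrg

open MonoidAlgebra

variable {R : Type*} [CommRing R] {C : Type*} [CommGroup C] [Fintype C] [DecidableEq C]

/-- The element with given coefficients. -/
noncomputable def mk (f : C → R) : MonoidAlgebra R C := ∑ x, single x (f x)

theorem coeff_mk (f : C → R) (y : C) : (mk f).coeff y = f y := by
  simp [mk, Finsupp.single_apply]

/-- The sum of all elements. -/
noncomputable def all (R C : Type*) [CommRing R] [CommGroup C] [Fintype C] : MonoidAlgebra R C :=
  ∑ x, single x 1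

theorem coeff_all (y : C) : (all R C).coeff y = 1 := by
  simp [all, Finsupp.single_apply]

theorem coeff_mul' (x y : MonoidAlgebra R C) (g : C) :
    (x * y).coeff g = ∑ u, x.coeff u * y.coeff (u⁻¹ * g) := by
  induction x using MonoidAlgebra.induction_linear with
  | zero => simp
  | add a b ha hb => simp [add_mul, ha, hb, Finset.sum_add_distrib]
  | single u r =>
    rw [coeff_single_mul_apply, Finset.sum_eq_single u (fun v _ hv => by simp [hv.symm]) (by simp)]
    simp

/-- The total. -/
def tot (x : MonoidAlgebra R C) : R := ∑ u, x.coeff u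

theorem coeff_all_mul (x : MonoidAlgebra R C) (g : C) : (all R C * x).coeff g = tot x := by
  rw [coeff_mul']
  simp only [coeff_all, one_mul, tot]
  exact Fintype.sum_equiv ((Equiv.inv C).trans (Equiv.mulRight g)) _ _ (fun u => rfl)

theorem all_mul (x : MonoidAlgebra R C) : all R C * x = tot x • all R C := by
  ext g
  rw [coeff_all_mul, coeff_smul_apply, coeff_all, smul_eq_mul, mul_one]

theorem tot_mul (x y : MonoidAlgebra R C) : tot (x * y) = tot x * tot y := by
  simp only [tot, coeff_mul']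
  rw [Finset.sum_comm, Finset.sum_mul]
  refine Finset.sum_congr rfl fun u _ => ?_
  rw [← Finset.mul_sum]
  congr 1
  exact Fintype.sum_equiv (Equiv.mulLeft u⁻¹) _ _ (fun g => rfl)

theorem tot_add (x y : MonoidAlgebra R C) : tot (x + y) = tot x + tot y := by
  simp [tot, Finset.sum_add_distrib]

theorem tot_smul (r : R) (x : MonoidAlgebra R C) : tot (r • x) = r * tot x := by
  simp [tot, coeff_smul_apply, Finset.mul_sum]

theorem tot_all : tot (all R C) = Fintype.card C := by simp [tot, coeff_all]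

theorem tot_one : tot (1 : MonoidAlgebra R C) = 1 := by
  simp [tot, MonoidAlgebra.one_def, Finsupp.single_apply]

theorem coeff_one' (y : C) : (1 : MonoidAlgebra R C).coeff y = if y = 1 then 1 else 0 := by
  simp [MonoidAlgebra.one_def, Finsupp.single_apply, eq_comm]

/-- The Frobenius map on the group algebra in characteristic `l`. -/
theorem coeff_pow_prime {l : ℕ} [Fact l.Prime] (x : MonoidAlgebra (ZMod l) C) (y : C) :
    (x ^ l).coeff y = ∑ u, if u ^ l = y then x.coeff u else 0 := by
  haveI : CharP (MonoidAlgebra (ZMod l) C) l :=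
    charP_of_injective_algebraMap (algebraMap (ZMod l) (MonoidAlgebra (ZMod l) C)).injective l
  induction x using MonoidAlgebra.induction_linear with
  | zero => simp [zero_pow (Fact.out : l.Prime).ne_zero]
  | add a b ha hb =>
    rw [add_pow_char, coeff_add, Finsupp.add_apply, ha, hb, ← Finset.sum_add_distrib]
    refine Finset.sum_congr rfl fun u _ => ?_
    split_ifs <;> simp
  | single u r =>
    rw [single_pow, ZMod.pow_card, Finset.sum_eq_single u (fun v _ hv => by simp [hv.symm]) (by simp)]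
    simp [Finsupp.single_apply]

/-- The cubic equation. -/
def Sol (d : ℕ) (P : MonoidAlgebra ℤ C) : Prop :=
  ∃ N : ℤ, P ^ 3 = ((d : ℤ) ^ 2) • P + N • all ℤ C

theorem Sol.odd_pow {d : ℕ} {P : MonoidAlgebra ℤ C} (h : Sol d P) (i : ℕ) :
    ∃ N : ℤ, P ^ (2 * i + 1) = ((d : ℤ) ^ (2 * i)) • P + N • all ℤ C := by
  obtain ⟨M, hM⟩ := h
  induction i with
  | zero => exact ⟨0, by simp⟩
  | succ i ih =>
    obtain ⟨N, hN⟩ := ih
    refine ⟨(d : ℤ) ^ (2 * i) * M + N * tot P ^ 2, ?_⟩
    rw [show 2 * (i + 1) + 1 = 2 * i + 1 + 2 by ring, pow_add, hN, add_mul, smul_mul_assoc,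
      smul_mul_assoc, ← pow_succ', hM, all_mul, smul_add, smul_smul, smul_smul, smul_smul,
      show tot (P ^ 2) = tot P ^ 2 by rw [pow_two, pow_two, tot_mul], add_assoc, ← add_smul,
      show (d : ℤ) ^ (2 * i) * (d : ℤ) ^ 2 = (d : ℤ) ^ (2 * (i + 1)) by ring]

theorem Sol.fibre {d : ℕ} {P : MonoidAlgebra ℤ C} (h : Sol d P) (l : ℕ) [Fact l.Prime] (hl : l ≠ 2) :
    ∃ N : ZMod l, ∀ y, (∑ u, if u ^ l = y then ((P.coeff u : ℤ) : ZMod l) else 0) =
      (d : ZMod l) ^ (l - 1) * ((P.coeff y : ℤ) : ZMod l) + N := by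
  obtain ⟨i, hi⟩ := (Fact.out : l.Prime).odd_of_ne_two hl
  obtain ⟨N, hN⟩ := h.odd_pow i
  rw [← hi] at hN
  refine ⟨N, fun y => ?_⟩
  let ρ := mapRingHom C (Int.castRingHom (ZMod l))
  have hρ : ∀ (x : MonoidAlgebra ℤ C) u, (ρ x).coeff u = ((x.coeff u : ℤ) : ZMod l) := fun x u => by
    simp [ρ, coeff_mapRingHom]
  have h1 := coeff_pow_prime (ρ P) y
  rw [← map_pow, hρ, hN] at h1
  simp only [hρ] at h1
  rw [← h1, coeff_add, Finsupp.add_apply, coeff_smul_apply, coeff_smul_apply, coeff_all,
    show l - 1 = 2 * i by omega]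
  push_cast [smul_eq_mul]
  ring

/-- A coefficient is `0` or `1`. -/
def Bit (v : ℤ) : Prop := v = 0 ∨ v = 1

theorem Bit.eq_of_cast {v w : ℤ} (hv : Bit v) (hw : Bit w) {l : ℕ} [Fact l.Prime]
    (h : (v : ZMod l) = (w : ZMod l)) : v = w := by
  rcases hv with rfl | rfl <;> rcases hw with rfl | rfl <;> simp at h ⊢

theorem Sol.compl {d : ℕ} {P : MonoidAlgebra ℤ C} (h : Sol d P) : Sol d (all ℤ C - P) := by
  obtain ⟨N, hN⟩ := h
  refine ⟨(Fintype.card C : ℤ) ^ 2 - 3 * (Fintype.card C : ℤ) * tot P + 3 * tot P ^ 2 - N -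
    (d : ℤ) ^ 2, ?_⟩
  have h0 : all ℤ C * all ℤ C = (Fintype.card C : ℤ) • all ℤ C := by rw [all_mul, tot_all]
  have h1 : all ℤ C * P = tot P • all ℤ C := all_mul P
  have h3 : all ℤ C ^ 3 = (Fintype.card C : ℤ) ^ 2 • all ℤ C := by
    rw [pow_succ, pow_two, h0, smul_mul_assoc, h0, smul_smul, pow_two]
  have h21 : all ℤ C ^ 2 * P = ((Fintype.card C : ℤ) * tot P) • all ℤ C := by
    rw [pow_two, h0, smul_mul_assoc, h1, smul_smul]
  have h12 : all ℤ C * P ^ 2 = (tot P ^ 2) • all ℤ C := by
    rw [all_mul, pow_two, pow_two, tot_mul]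
  rw [show (all ℤ C - P) ^ 3 = all ℤ C ^ 3 - 3 * (all ℤ C ^ 2 * P) + 3 * (all ℤ C * P ^ 2) - P ^ 3
    by ring, h3, h21, h12, hN]
  simp only [zsmul_eq_mul]
  push_cast
  ring

theorem eq_cube_of_supported {d : ℕ} {P : MonoidAlgebra ℤ C} (h : Sol d P) (H : Subgroup C) (hH : H ≠ ⊤)
    (hP : ∀ u, u ∉ H → P.coeff u = 0) : tot P = 0 ∨ tot P = d ∨ tot P = -(d : ℤ) := by
  obtain ⟨N, hN⟩ := h
  have hmul : ∀ x y : MonoidAlgebra ℤ C, (∀ u, u ∉ H → x.coeff u = 0) →
      (∀ u, u ∉ H → y.coeff u = 0) → ∀ u, u ∉ H → (x * y).coeff u = 0 := by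
    intro x y hx hy u hu
    rw [coeff_mul']
    refine Finset.sum_eq_zero fun v _ => ?_
    by_cases hv : v ∈ H
    · rw [hy _ (fun h => hu ((H.mul_mem_cancel_left (inv_mem hv)).1 h)), mul_zero]
    · rw [hx v hv, zero_mul]
  obtain ⟨u, hu⟩ : ∃ u, u ∉ H := by
    by_contra hc
    simp only [not_exists, not_not] at hc
    exact hH (eq_top_iff.2 fun u _ => hc u)
  have h3 : (P ^ 3).coeff u = 0 := by
    rw [pow_succ, pow_two]
    exact hmul _ _ (hmul _ _ hP hP) hP u hu
  rw [hN, coeff_add, Finsupp.add_apply, coeff_smul_apply, coeff_smul_apply, coeff_all, hP u hu] at h3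
  have hN0 : N = 0 := by simpa using h3
  have ht := congrArg tot hN
  rw [hN0, zero_smul, add_zero, tot_smul, pow_succ, pow_two, tot_mul, tot_mul] at ht
  have : tot P * (tot P - d) * (tot P + d) = 0 := by linear_combination ht
  rcases mul_eq_zero.1 this with h | h
  · rcases mul_eq_zero.1 h with h | h
    · exact Or.inl h
    · exact Or.inr (Or.inl (sub_eq_zero.1 h))
  · exact Or.inr (Or.inr (eq_neg_of_add_eq_zero_left h))

variable [IsCyclic C]

theorem card_kernel {l : ℕ} [Fact l.Prime] {z : C} (hz : orderOf z = l) (u : C) :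
    u ^ l = 1 ↔ u ∈ Subgroup.zpowers z := by
  constructor
  · intro hu
    have hsub : (Finset.univ.filter fun v : C => v ∈ Subgroup.zpowers z) ⊆
        Finset.univ.filter fun v : C => v ^ l = 1 := by
      intro v hv
      simp only [Finset.mem_filter, Finset.mem_univ, true_and] at hv ⊢
      exact orderOf_dvd_iff_pow_eq_one.1 (hz ▸ orderOf_dvd_of_mem_zpowers hv)
    have hc : (Finset.univ.filter fun v : C => v ∈ Subgroup.zpowers z).card = l := by
      rw [← Fintype.card_subtype, ← Nat.card_eq_fintype_card, ← hz, ← Nat.card_zpowers]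
    have heq := Finset.eq_of_subset_of_card_le hsub
      (hc.symm ▸ IsCyclic.card_pow_eq_one_le (Fact.out : l.Prime).pos)
    have hmem : u ∈ Finset.univ.filter fun v : C => v ^ l = 1 := by simp [hu]
    rw [← heq] at hmem
    simpa using hmem
  · intro hu
    exact orderOf_dvd_iff_pow_eq_one.1 (hz ▸ orderOf_dvd_of_mem_zpowers hu)

/-- When `l` does not divide `d`, the total is determined up to six values. -/
theorem leaf {d : ℕ} {P : MonoidAlgebra ℤ C} (h : Sol d P) (hb : ∀ u, u ≠ 1 → Bit (P.coeff u))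
    {l : ℕ} [Fact l.Prime] (hl : l ≠ 2) (hlm : l ∣ Fintype.card C) (hld : ¬ l ∣ d) :
    (tot P = 0 ∨ tot P = d ∨ tot P = -(d : ℤ)) ∨
      ((Fintype.card C : ℤ) - tot P = 0 ∨ (Fintype.card C : ℤ) - tot P = d ∨
        (Fintype.card C : ℤ) - tot P = -(d : ℤ)) := by
  obtain ⟨N, hN⟩ := h.fibre l hl
  set H := (powMonoidHom l : C →* C).range
  have hd1 : (d : ZMod l) ^ (l - 1) = 1 :=
    ZMod.pow_card_sub_one_eq_one fun e => hld ((ZMod.natCast_eq_zero_iff _ _).1 e)
  have hout : ∀ u, u ∉ H → ((P.coeff u : ℤ) : ZMod l) + N = 0 := by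
    intro u hu
    rw [← one_mul ((P.coeff u : ℤ) : ZMod l), ← hd1, ← hN u]
    exact Finset.sum_eq_zero fun v _ => if_neg fun e => hu ⟨v, e⟩
  have hH : H ≠ ⊤ := by
    intro e
    have hbij : Function.Bijective (powMonoidHom l : C →* C) :=
      Finite.injective_iff_bijective.1 (Finite.injective_iff_surjective.2
        (MonoidHom.range_eq_top.1 e))
    obtain ⟨z, hz⟩ := exists_prime_orderOf_dvd_card l hlm
    have : z = 1 := hbij.1 (show z ^ l = 1 ^ l by rw [one_pow, ← hz, pow_orderOf_eq_one])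
    rw [this, orderOf_one] at hz
    exact (Fact.out : l.Prime).ne_one hz.symm
  obtain ⟨u₀, hu₀⟩ : ∃ u, u ∉ H := by
    by_contra hc
    simp only [not_exists, not_not] at hc
    exact hH (eq_top_iff.2 fun u _ => hc u)
  have h1 : ∀ u, u ∉ H → u ≠ 1 := fun u hu e => hu (e ▸ one_mem H)
  have hconst : ∀ u, u ∉ H → P.coeff u = P.coeff u₀ := fun u hu =>
    (hb u (h1 u hu)).eq_of_cast (hb u₀ (h1 u₀ hu₀)) (add_right_cancel ((hout u hu).trans (hout u₀ hu₀).symm))
  rcases hb u₀ (h1 u₀ hu₀) with e | e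
  · exact Or.inl (eq_cube_of_supported h H hH fun u hu => (hconst u hu).trans e)
  · refine Or.inr ?_
    have ht : tot (all ℤ C - P) = (Fintype.card C : ℤ) - tot P := by
      simp [tot, coeff_all, Finset.sum_sub_distrib]
    rw [← ht]
    exact eq_cube_of_supported h.compl H hH fun u hu => by simp [coeff_all, hconst u hu, e]

/-- Coefficients at non-trivial elements are invariant under prime powers coprime to everything. -/
theorem Sol.prime_pow_invariant {d : ℕ} {P : MonoidAlgebra ℤ C} (h : Sol d P)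
    (hb : ∀ u, u ≠ 1 → Bit (P.coeff u)) {t : ℕ} [Fact t.Prime] (ht2 : t ≠ 2)
    (htm : ¬ t ∣ Fintype.card C) (htd : t ∣ d → d = 0) {u : C} (hu : u ≠ 1) :
    P.coeff (u ^ t) = P.coeff u := by
  obtain ⟨N, hN⟩ := h.fibre t ht2
  have hcop : (Nat.card C).Coprime t :=
    ((Fact.out : t.Prime).coprime_iff_not_dvd.2 (by rwa [Nat.card_eq_fintype_card])).symm
  have hinj : Function.Injective (fun v : C => v ^ t) := (powCoprime hcop).injective
  have hsum : ∀ v : C, ((P.coeff v : ℤ) : ZMod t) =
      (d : ZMod t) ^ (t - 1) * ((P.coeff (v ^ t) : ℤ) : ZMod t) + N := by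
    intro v
    rw [← hN (v ^ t), Finset.sum_eq_single v (fun w _ hw => if_neg fun e => hw (hinj e)) (by simp),
      if_pos rfl]
  have hut : u ^ t ≠ 1 := fun e => hu (hinj (show u ^ t = 1 ^ t by rw [one_pow, e]))
  refine (hb _ hut).eq_of_cast (l := t) (hb _ hu) ?_
  rcases eq_or_ne d 0 with rfl | hd
  · have e1 := hsum u
    have e2 := hsum (u ^ t)
    simp only [Nat.cast_zero, zero_pow (Nat.sub_ne_zero_of_lt (Fact.out : t.Prime).one_lt), zero_mul,
      zero_add] at e1 e2
    rw [e1, e2]
  have hd1 : (d : ZMod t) ^ (t - 1) = 1 :=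
    ZMod.pow_card_sub_one_eq_one fun e => hd (htd ((ZMod.natCast_eq_zero_iff _ _).1 e))
  have e1 := hsum 1
  rw [one_pow, hd1, one_mul] at e1
  have hN0 : N = 0 := by linear_combination -e1
  rw [hsum u, hd1, one_mul, hN0, add_zero]

theorem Sol.subgroup_const {d : ℕ} {P : MonoidAlgebra ℤ C} (h : Sol d P)
    (hb : ∀ u, u ≠ 1 → Bit (P.coeff u)) {l : ℕ} [Fact l.Prime] {z : C} (hz : orderOf z = l) {y : C}
    (hy : y ∈ Subgroup.zpowers z) (hy1 : y ≠ 1) : P.coeff y = P.coeff z := by
  have hl := (Fact.out : l.Prime)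
  have hz1 : z ≠ 1 := fun e => hl.ne_one (by rw [← hz, e, orderOf_one])
  obtain ⟨j, rfl⟩ := (isOfFinOrder_of_finite z).mem_powers_iff_mem_zpowers.2 hy
  have hj : (j : ZMod l) ≠ 0 := by
    intro e
    refine hy1 ?_
    show z ^ j = 1
    rw [← orderOf_dvd_iff_pow_eq_one, hz, ← ZMod.natCast_eq_zero_iff, e]
  obtain ⟨t, ht, htp, hte⟩ := Nat.forall_exists_prime_gt_and_eq_mod
    (isUnit_iff_ne_zero.2 hj) (2 + Fintype.card C + d)
  haveI : Fact t.Prime := ⟨htp⟩
  have e : z ^ t = z ^ j := by
    rw [pow_eq_pow_iff_modEq, hz, ← ZMod.natCast_eq_natCast_iff, hte]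
  show P.coeff (z ^ j) = P.coeff z
  rw [← e]
  refine h.prime_pow_invariant hb (by omega) (fun hd => ?_) (fun hd => ?_) hz1
  · have := Nat.le_of_dvd Fintype.card_pos hd
    omega
  · rcases Nat.eq_zero_or_pos d with h0 | h0
    · exact h0
    · have := Nat.le_of_dvd h0 hd
      omega

/-- When `l` divides `d`, invariance under the subgroup of order `l` up to the identity. -/
theorem Sol.invariant {d : ℕ} {P : MonoidAlgebra ℤ C} (h : Sol d P)
    (hb : ∀ u, u ≠ 1 → Bit (P.coeff u)) {l : ℕ} [Fact l.Prime] (hl : l ≠ 2) (hld : l ∣ d) {z : C}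
    (hz : orderOf z = l) :
    ∃ κ : ℤ, (∀ u, (P.coeff (z * u) - if z * u = 1 then κ else 0) = P.coeff u - if u = 1 then κ else 0) ∧
      P.coeff 1 = P.coeff z + κ ∧ (l : ℤ) ∣ κ := by
  classical
  have hlp := (Fact.out : l.Prime)
  obtain ⟨N, hN⟩ := h.fibre l hl
  have hd0 : (d : ZMod l) ^ (l - 1) = 0 := by
    rw [(ZMod.natCast_eq_zero_iff _ _).2 hld, zero_pow (Nat.sub_ne_zero_of_lt hlp.one_lt)]
  have hzl : z ^ l = 1 := by rw [← hz, pow_orderOf_eq_one]
  have hz1 : z ≠ 1 := fun e => hlp.ne_one (by rw [← hz, e, orderOf_one])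
  have hN0 : N = 0 := by
    obtain ⟨g, hg⟩ := IsCyclic.exists_generator (α := C)
    have hg' : ∀ v : C, v ^ l ≠ g := by
      intro v hv
      have hbij : Function.Surjective (powMonoidHom l : C →* C) := fun y => by
        obtain ⟨i, rfl⟩ := hg y
        refine ⟨v ^ i, ?_⟩
        show (v ^ i) ^ l = g ^ i
        rw [← zpow_natCast, ← zpow_mul, mul_comm, zpow_mul, zpow_natCast, hv]
      exact hz1 (Finite.injective_iff_surjective.2 hbij (show z ^ l = 1 ^ l by rw [one_pow, hzl]))
    have := hN g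
    rw [hd0, zero_mul, zero_add, Finset.sum_eq_zero fun v _ => if_neg (hg' v)] at this
    exact this.symm
  have hfib : ∀ x : C, (∑ w : Subgroup.zpowers z, ((P.coeff (x * w) : ℤ) : ZMod l)) = 0 := by
    intro x
    have := hN (x ^ l)
    rw [hd0, zero_mul, zero_add, hN0] at this
    refine Eq.trans ?_ this
    rw [← Finset.sum_filter]
    refine Finset.sum_bij (fun w _ => x * w) (fun w _ => ?_) (fun a _ b _ e => Subtype.ext (mul_left_cancel e))
      (fun v hv => ?_) (fun w _ => rfl)
    · simp [mul_pow, (card_kernel hz _).2 w.2]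
    · simp only [Finset.mem_filter, Finset.mem_univ, true_and] at hv
      exact ⟨⟨x⁻¹ * v, (card_kernel hz _).1 (by rw [mul_pow, inv_pow, hv, inv_mul_cancel])⟩,
        Finset.mem_univ _, mul_inv_cancel_left x v⟩
  have hcard : (Finset.univ : Finset (Subgroup.zpowers z)).card = l := by
    rw [Finset.card_univ, ← Nat.card_eq_fintype_card, Nat.card_zpowers, hz]
  set κ := P.coeff 1 - P.coeff z with hκ
  refine ⟨κ, fun u => ?_, by omega, ?_⟩
  swap
  · rw [← ZMod.intCast_zmod_eq_zero_iff_dvd, hκ]
    have h0 := hfib 1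
    simp only [one_mul] at h0
    rw [← Finset.sum_erase_add _ _ (Finset.mem_univ (1 : Subgroup.zpowers z)), Finset.sum_congr rfl
      (g := fun _ => ((P.coeff z : ℤ) : ZMod l)) (fun w hw => by
        rw [h.subgroup_const hb hz w.2 fun e => (Finset.mem_erase.1 hw).1 (Subtype.ext e)]),
      Finset.sum_const, Finset.card_erase_of_mem (Finset.mem_univ _), hcard, Subgroup.coe_one,
      nsmul_eq_mul, Nat.cast_sub hlp.one_lt.le, ZMod.natCast_self, Nat.cast_one] at h0
    push_cast
    linear_combination h0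
  by_cases hu : u ∈ Subgroup.zpowers z
  · have hzu : z * u ∈ Subgroup.zpowers z := mul_mem (Subgroup.mem_zpowers z) hu
    have hv : ∀ {v}, v ∈ Subgroup.zpowers z → (P.coeff v - if v = 1 then κ else 0) = P.coeff z := by
      intro v hv
      by_cases h1 : v = 1
      · rw [if_pos h1, h1]; omega
      · rw [if_neg h1, sub_zero, h.subgroup_const hb hz hv h1]
    rw [hv hzu, hv hu]
  · have hzu : z * u ∉ Subgroup.zpowers z := fun e =>
      hu ((Subgroup.zpowers z).mul_mem_cancel_left (Subgroup.mem_zpowers z) |>.1 e)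
    have ne1 : ∀ {v}, v ∉ Subgroup.zpowers z → v ≠ 1 := fun hv e => hv (e ▸ one_mem _)
    rw [if_neg (ne1 hu), if_neg (ne1 hzu), sub_zero, sub_zero]
    have hout : ∀ w : Subgroup.zpowers z, u * w ≠ 1 := fun w e =>
      hu (by rw [eq_inv_of_mul_eq_one_left e]; exact inv_mem w.2)
    let T := Finset.univ.filter fun w : Subgroup.zpowers z => P.coeff (u * w) = 1
    have hT : (T.card : ZMod l) = 0 := by
      rw [← hfib u, Finset.natCast_card_filter]
      refine Finset.sum_congr rfl fun w _ => ?_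
      rcases hb _ (hout w) with e | e <;> simp [e]
    have hTl : T.card ≤ l := (Finset.card_filter_le _ _).trans hcard.le
    rw [ZMod.natCast_eq_zero_iff] at hT
    have hone : u * ((1 : Subgroup.zpowers z) : C) = u := by simp
    have hzz : u * ((⟨z, Subgroup.mem_zpowers z⟩ : Subgroup.zpowers z) : C) = z * u := mul_comm _ _
    rcases Nat.eq_zero_or_pos T.card with h0 | h0
    · have hall : ∀ w : Subgroup.zpowers z, P.coeff (u * w) = 0 := fun w =>
        (hb _ (hout w)).resolve_right fun e => by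
          rw [Finset.card_eq_zero] at h0
          exact Finset.notMem_empty w (h0 ▸ Finset.mem_filter.2 ⟨Finset.mem_univ w, e⟩)
      have a1 := hall 1
      have a2 := hall ⟨z, Subgroup.mem_zpowers z⟩
      rw [hone] at a1
      rw [hzz] at a2
      rw [a1, a2]
    · have hTe : T = Finset.univ := Finset.eq_univ_of_card _ (by
        rw [← Finset.card_univ, hcard]; exact le_antisymm hTl (Nat.le_of_dvd h0 hT))
      have hall : ∀ w : Subgroup.zpowers z, P.coeff (u * w) = 1 := fun w =>
        (Finset.mem_filter.1 (hTe.ge (Finset.mem_univ w))).2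
      have a1 := hall 1
      have a2 := hall ⟨z, Subgroup.mem_zpowers z⟩
      rw [hone] at a1
      rw [hzz] at a2
      rw [a1, a2]

theorem coeff_mapDomain {D : Type*} [CommGroup D] [Fintype D] [DecidableEq D] (φ : C →* D)
    (x : MonoidAlgebra ℤ C) (q : D) :
    (mapDomainRingHom ℤ φ x).coeff q = ∑ u, if φ u = q then x.coeff u else 0 := by
  induction x using MonoidAlgebra.induction_linear with
  | zero => simp
  | add a b ha hb =>
    rw [map_add, coeff_add, Finsupp.add_apply, ha, hb, ← Finset.sum_add_distrib]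
    refine Finset.sum_congr rfl fun u _ => ?_
    split_ifs <;> simp
  | single u r =>
    rw [Finset.sum_eq_single u (fun v _ hv => by simp [hv.symm]) (by simp)]
    simp [Finsupp.single_apply]

omit [IsCyclic C] in
theorem arith_coprime {F B mu m : ℤ} {d : ℕ} (hB0 : 0 ≤ B) (hBm : B ≤ m) (hm : 2 ≤ m)
    (hmu : mu * m = 2 * (F * B)) (h4 : ∀ x : ℤ, 4 * (d : ℤ) ^ 2 ≠ m * x)
    (hBF : B = F + d ∨ B = F - d)
    (hF : (F = 0 ∨ F = d ∨ F = -(d : ℤ)) ∨ (m - F = 0 ∨ m - F = d ∨ m - F = -(d : ℤ))) :
    mu = 0 ∨ 2 * m + mu = 2 * F + 2 * B := by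
  have hd : (0 : ℤ) < d := by
    rcases Nat.eq_zero_or_pos d with rfl | h
    · exact absurd (by simp) (h4 0)
    · exact_mod_cast h
  have fin : ∀ X : ℤ, mu * m = X * m → mu = X := fun X h => mul_right_cancel₀ (by omega : m ≠ 0) h
  rcases hF with (e | e | e) | (e | e | e)
  · exact Or.inl (fin 0 (by rw [hmu, e]; ring))
  · rcases hBF with h | h
    · exact absurd (by rw [e] at hmu h; rw [h] at hmu; linear_combination -hmu) (h4 mu)
    · exact Or.inl (fin 0 (by rw [hmu, h, e]; ring))
  · rcases hBF with h | h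
    · exact Or.inl (fin 0 (by rw [hmu, h, e]; ring))
    · omega
  · rcases hBF with h | h
    · omega
    · refine Or.inr ?_
      have := fin (2 * B) (by rw [hmu, show F = m by omega]; ring)
      omega
  · rcases hBF with h | h
    · refine Or.inr ?_
      have := fin (2 * F) (by rw [hmu, show B = m by omega]; ring)
      omega
    · refine absurd ?_ (h4 (mu - 2 * m + 6 * d))
      rw [show F = m - d by omega] at hmu h
      rw [h] at hmu
      linear_combination -hmu
  · rcases hBF with h | h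
    · omega
    · refine Or.inr ?_
      have := fin (2 * F) (by rw [hmu, show B = m by omega]; ring)
      omega

omit [IsCyclic C] in
theorem arith_div {F B mu m : ℤ} {d : ℕ} (hB0 : 0 ≤ B) (hBm : B ≤ m) (hmu0 : 0 ≤ mu) (hm : 2 ≤ m)
    (hmu : mu * m = 2 * (F * B)) (hFk : F + B = (d : ℤ) ^ 2 + mu)
    (hBF : B = F + d ∨ B = F - d) (hd : (d : ℤ) = 0 ∨ (3 : ℤ) ≤ d)
    (hF : F = 0 ∨ F = d ∨ F = m - d ∨ F = m) : mu = 0 ∨ 2 * m + mu = 2 * F + 2 * B := by
  have fin : ∀ X : ℤ, mu * m = X * m → mu = X := fun X h => mul_right_cancel₀ (by omega : m ≠ 0) h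
  rcases hF with e | e | e | e
  · exact Or.inl (fin 0 (by rw [hmu, e]; ring))
  · rcases hBF with h | h
    · left
      rcases hd with h0 | h0
      · exact fin 0 (by rw [hmu, h, e, h0]; ring)
      · nlinarith
    · exact Or.inl (fin 0 (by rw [hmu, h, e]; ring))
  · rcases hBF with h | h
    · refine Or.inr ?_
      have := fin (2 * F) (by rw [hmu, show B = m by omega]; ring)
      omega
    · rcases hd with h0 | h0
      · refine Or.inr ?_
        have := fin (2 * m) (by rw [hmu, h, e, h0]; ring)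
        omega
      · exfalso
        have hexp : 3 * (d : ℤ) * m - (d : ℤ) ^ 2 * m = 4 * (d : ℤ) ^ 2 := by
          rw [show mu = 2 * m - 3 * (d : ℤ) - (d : ℤ) ^ 2 by omega, h, e] at hmu
          linear_combination hmu
        have h1 : (3 : ℤ) * d * m ≤ (d : ℤ) * d * m := by gcongr
        nlinarith
  · refine Or.inr ?_
    have := fin (2 * B) (by rw [hmu, e]; ring)
    rcases hBF with h | h <;> omega

omit [IsCyclic C] in
theorem set_sol.{u} : ∀ (n : ℕ) (C : Type u) [CommGroup C] [Fintype C] [DecidableEq C] [IsCyclic C],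
    Fintype.card C = n → Odd n → ∀ (d : ℕ) (P : MonoidAlgebra ℤ C), Sol d P →
    (∀ u, Bit (P.coeff u)) → P.coeff 1 = 0 → tot P = 0 ∨ tot P = d ∨ tot P = (n : ℤ) - d := by
  intro n
  induction n using Nat.strong_induction_on with
  | _ n ih =>
    intro C _ _ _ _ hn hodd d P hsol hb h1
    classical
    have hnn : 0 ≤ tot P := Finset.sum_nonneg fun u _ => by rcases hb u with e | e <;> simp [e]
    have hlt : tot P < n := by
      calc tot P < ∑ _u : C, (1 : ℤ) := Finset.sum_lt_sum
            (fun u _ => by rcases hb u with e | e <;> simp [e]) ⟨1, Finset.mem_univ _, by simp [h1]⟩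
        _ = n := by simp [hn]
    by_cases hn1 : n = 1
    · left; omega
    set l := n.minFac
    have hlp : l.Prime := Nat.minFac_prime hn1
    haveI : Fact l.Prime := ⟨hlp⟩
    have hln : l ∣ n := Nat.minFac_dvd n
    have hl2 : l ≠ 2 := fun e => by
      rw [e] at hln
      exact Nat.not_even_iff_odd.2 hodd (even_iff_two_dvd.2 hln)
    by_cases hld : l ∣ d
    swap
    · have := leaf hsol (fun u _ => hb u) hl2 (hn ▸ hln) hld
      rw [hn] at this
      omega
    obtain ⟨z, hz⟩ := exists_prime_orderOf_dvd_card l (hn ▸ hln : l ∣ Fintype.card C)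
    obtain ⟨κ, hinv, hκ, hκl⟩ := hsol.invariant (fun u _ => hb u) hl2 hld hz
    have hκ0 : κ = 0 := by
      obtain ⟨c, hc⟩ := hκl
      have h3 : 3 ≤ l := by have := hlp.two_le; omega
      rcases hb z with e | e
      · omega
      · exfalso
        rcases lt_trichotomy c 0 with hc0 | rfl | hc0
        · have : (l : ℤ) * c ≤ l * (-1) := by gcongr; omega
          omega
        · omega
        · have : (l : ℤ) * 1 ≤ l * c := by gcongr; omega
          omega
    set K := Subgroup.zpowers z
    have hinv' : ∀ (u : C) (w : K), P.coeff (u * w) = P.coeff u := by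
      have step : ∀ u, P.coeff (z * u) = P.coeff u := fun u => by simpa [hκ0] using hinv u
      intro u ⟨w, hw⟩
      obtain ⟨j, rfl⟩ := (isOfFinOrder_of_finite z).mem_powers_iff_mem_zpowers.2 hw
      show P.coeff (u * z ^ j) = P.coeff u
      induction j with
      | zero => simp
      | succ j ihj => rw [pow_succ', mul_left_comm, step]; exact ihj (pow_mem (Subgroup.mem_zpowers z) j)
    let π := QuotientGroup.mk' K
    let P' : MonoidAlgebra ℤ (C ⧸ K) := mk fun q => P.coeff q.out
    have hfib : ∀ (f : C → ℤ) (v : C), (∀ w : K, f (v * w) = f v) →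
        (∑ u, if π u = (v : C ⧸ K) then f u else 0) = (l : ℤ) * f v := by
      intro f v hf
      rw [← Finset.sum_filter]
      have hbij : ∑ u ∈ Finset.univ.filter (fun u => π u = (v : C ⧸ K)), f u = ∑ w : K, f (v * w) := by
        refine Eq.symm (Finset.sum_bij (fun (w : K) _ => v * (w : C)) (fun w _ => ?_)
          (fun a _ b _ e => Subtype.ext (mul_left_cancel e))
          (fun u hu => ?_) (fun w _ => rfl))
        · exact Finset.mem_filter.2 ⟨Finset.mem_univ _, QuotientGroup.mk_mul_of_mem v w.2⟩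
        · exact ⟨⟨v⁻¹ * u, QuotientGroup.eq.1 ((Finset.mem_filter.1 hu).2).symm⟩, Finset.mem_univ _,
            mul_inv_cancel_left v u⟩
      rw [hbij, Finset.sum_congr rfl (fun w _ => hf w), Finset.sum_const, Finset.card_univ,
        ← Nat.card_eq_fintype_card, Nat.card_zpowers, hz]
      simp
    have hP' : ∀ v : C, P'.coeff (v : C ⧸ K) = P.coeff v := by
      intro v
      rw [coeff_mk]
      have hm : v⁻¹ * (v : C ⧸ K).out ∈ K := QuotientGroup.eq.1 (QuotientGroup.out_eq' (v : C ⧸ K)).symm
      have := hinv' v ⟨_, hm⟩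
      rwa [Subgroup.coe_mk, mul_inv_cancel_left] at this
    have hpush : mapDomainRingHom ℤ π P = (l : ℤ) • P' := by
      ext q
      induction q using QuotientGroup.induction_on with
      | H v => rw [coeff_mapDomain, hfib _ v (fun w => hinv' v w), coeff_smul_apply, hP', smul_eq_mul]
    have hall : mapDomainRingHom ℤ π (all ℤ C) = (l : ℤ) • all ℤ (C ⧸ K) := by
      ext q
      induction q using QuotientGroup.induction_on with
      | H v =>
        rw [coeff_mapDomain, hfib _ v (fun w => by rw [coeff_all, coeff_all]), coeff_smul_apply,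
          coeff_all, coeff_all, smul_eq_mul]
    obtain ⟨N, hN⟩ := hsol
    obtain ⟨d', rfl⟩ := hld
    have hN' := congrArg (mapDomainRingHom ℤ π) hN
    rw [map_pow, map_add, map_zsmul, map_zsmul, hpush, hall, smul_pow, smul_smul, smul_smul] at hN'
    have hl0 : (l : ℤ) ≠ 0 := by exact_mod_cast hlp.ne_zero
    have hsol' : Sol d' P' := by
      have h0 : ∀ q, (l : ℤ) ^ 2 * (P' ^ 3).coeff q =
          (l : ℤ) ^ 2 * (d' : ℤ) ^ 2 * P'.coeff q + N := by
        intro q
        have := congrArg (fun x => x.coeff q) hN'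
        simp only [coeff_add, Finsupp.add_apply, coeff_smul_apply, coeff_all, smul_eq_mul] at this
        refine mul_left_cancel₀ hl0 ?_
        push_cast at this
        linear_combination this
      refine ⟨(P' ^ 3).coeff 1 - (d' : ℤ) ^ 2 * P'.coeff 1, ?_⟩
      ext q
      simp only [coeff_add, Finsupp.add_apply, coeff_smul_apply, coeff_all, smul_eq_mul, mul_one]
      refine mul_left_cancel₀ (pow_ne_zero 2 hl0) ?_
      linear_combination h0 q - h0 1
    have hcardq : Fintype.card (C ⧸ K) * l = n := by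
      rw [← hn, ← Nat.card_eq_fintype_card, ← Nat.card_eq_fintype_card (α := C),
        Subgroup.card_eq_card_quotient_mul_card_subgroup K, Nat.card_zpowers, hz]
    have hqlt : Fintype.card (C ⧸ K) < n := by
      rw [← hcardq]
      exact lt_mul_of_one_lt_right Fintype.card_pos hlp.one_lt
    have htot : tot P = (l : ℤ) * tot P' := by
      have e : tot (mapDomainRingHom ℤ π P) = tot P := by
        simp only [tot, coeff_mapDomain]
        rw [Finset.sum_comm]
        simp
      rw [← e, hpush, tot_smul]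
    have hoddq : Odd (Fintype.card (C ⧸ K)) := (Nat.odd_mul.1 (hcardq ▸ hodd)).1
    haveI : IsCyclic (C ⧸ K) := isCyclic_of_surjective π (QuotientGroup.mk'_surjective K)
    rcases ih _ hqlt (C ⧸ K) rfl hoddq d' P' hsol'
        (fun q => by rw [coeff_mk]; exact hb _) (by rw [← QuotientGroup.mk_one, hP']; exact h1)
      with e | e | e
    · left; rw [htot, e, mul_zero]
    · right; left; rw [htot, e]; push_cast; ring
    · right; right; rw [htot, e, ← hcardq]; push_cast; ring

/-- The graph lemma. -/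
theorem dihedral_srg (hodd : Odd (Fintype.card C)) (h1 : 1 < Fintype.card C) (A B : Finset C)
    (hA1 : (1 : C) ∉ A) (hsym : ∀ u ∈ A, u⁻¹ ∈ A) (lam mu : ℕ)
    (hC : ∀ y, y ≠ 1 → (A.filter fun u => y⁻¹ * u ∈ A).card + (B.filter fun u => y⁻¹ * u ∈ B).card =
      if y ∈ A then lam else mu)
    (hD : ∀ y, 2 * (A.filter fun u => u⁻¹ * y ∈ B).card = if y ∈ B then lam else mu) :
    mu = 0 ∨ 2 * Fintype.card C + lam = 2 * (A.card + B.card) ∨
      ∃ z : C, z ≠ 1 ∧ (∀ y, y ≠ 1 → y ≠ z → (z⁻¹ * y ∈ A ↔ y ∈ A)) ∧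
        ∀ y, z⁻¹ * y ∈ B ↔ y ∈ B := by
  classical
  set m := Fintype.card C
  let ind : Finset C → C → ℤ := fun T u => if u ∈ T then 1 else 0
  set a : MonoidAlgebra ℤ C := mk (ind A) with ha
  set b : MonoidAlgebra ℤ C := mk (ind B) with hb'
  set b' : MonoidAlgebra ℤ C := mk (fun u => ind B u⁻¹) with hbar
  have hsym' : ∀ u, u⁻¹ ∈ A ↔ u ∈ A := fun u => ⟨fun h => by simpa using hsym _ h, hsym u⟩
  have hAA : ∀ y, (a * a).coeff y = ((A.filter fun u => y⁻¹ * u ∈ A).card : ℤ) := by
    intro y
    rw [coeff_mul', Finset.natCast_card_filter, ← Finset.sum_filter_add_sum_filter_not Finset.univ (· ∈ A)]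
    simp only [ha, coeff_mk, ind]
    rw [Finset.sum_eq_zero (s := Finset.univ.filter fun u => ¬ u ∈ A) (fun u hu => by
      simp [(Finset.mem_filter.1 hu).2]), add_zero]
    refine Finset.sum_congr (by ext; simp) fun u hu => ?_
    rw [if_pos hu, one_mul]
    refine if_congr ?_ rfl rfl
    rw [← hsym' (u⁻¹ * y), mul_inv_rev, inv_inv]
  have hBB : ∀ y, (b * b').coeff y = ((B.filter fun u => y⁻¹ * u ∈ B).card : ℤ) := by
    intro y
    rw [coeff_mul', Finset.natCast_card_filter, ← Finset.sum_filter_add_sum_filter_not Finset.univ (· ∈ B)]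
    simp only [hb', hbar, coeff_mk, ind]
    rw [Finset.sum_eq_zero (s := Finset.univ.filter fun u => ¬ u ∈ B) (fun u hu => by
      simp [(Finset.mem_filter.1 hu).2]), add_zero]
    refine Finset.sum_congr (by ext; simp) fun u hu => ?_
    rw [if_pos hu, one_mul, mul_inv_rev, inv_inv]
  have hAB : ∀ y, (a * b).coeff y = ((A.filter fun u => u⁻¹ * y ∈ B).card : ℤ) := by
    intro y
    rw [coeff_mul', Finset.natCast_card_filter, ← Finset.sum_filter_add_sum_filter_not Finset.univ (· ∈ A)]
    simp only [ha, hb', coeff_mk, ind]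
    rw [Finset.sum_eq_zero (s := Finset.univ.filter fun u => ¬ u ∈ A) (fun u hu => by
      simp [(Finset.mem_filter.1 hu).2]), add_zero]
    refine Finset.sum_congr (by ext; simp) fun u hu => ?_
    rw [if_pos hu, one_mul]
  have hta : tot a = A.card := by simp [tot, ha, coeff_mk, ind]
  have htb : tot b = B.card := by simp [tot, hb', coeff_mk, ind]
  have htb' : tot b' = B.card := by
    rw [← htb]
    simp only [tot, hb', hbar, coeff_mk]
    exact Fintype.sum_equiv (Equiv.inv C) _ _ fun u => rfl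
  set k : ℤ := (A.card : ℤ) + B.card with hk
  set σ : ℤ := (lam : ℤ) - mu with hσ
  have eqC : a * a + b * b' = (k - mu) • 1 + σ • a + (mu : ℤ) • all ℤ C := by
    ext y
    simp only [coeff_add, Finsupp.add_apply, coeff_smul_apply, smul_eq_mul, hAA, hBB, coeff_one',
      coeff_all]
    simp only [ha, coeff_mk, ind]
    by_cases hy : y = 1
    · subst hy
      simp [hA1, hk, Finset.filter_true_of_mem]
    · have := hC y hy
      rw [if_neg hy]
      by_cases hyA : y ∈ A
      · rw [if_pos hyA] at this ⊢; omega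
      · rw [if_neg hyA] at this ⊢; omega
  have eqD : 2 * (a * b) = σ • b + (mu : ℤ) • all ℤ C := by
    ext y
    rw [two_mul]
    simp only [coeff_add, Finsupp.add_apply, coeff_smul_apply, smul_eq_mul, hAB, coeff_all]
    simp only [hb', coeff_mk, ind]
    have := hD y
    by_cases hy : y ∈ B
    · rw [if_pos hy] at this ⊢; omega
    · rw [if_neg hy] at this ⊢; omega
  obtain ⟨c, hc⟩ | hσodd := Int.even_or_odd σ
  swap
  · -- `B` is empty or everything
    have hcases : B = ∅ ∨ B = Finset.univ := by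
      by_contra hcon
      simp only [not_or] at hcon
      obtain ⟨y, hy⟩ := Finset.nonempty_iff_ne_empty.2 hcon.1
      obtain ⟨y', hy'⟩ : ∃ y', y' ∉ B := by
        by_contra h; simp only [not_exists, not_not] at h; exact hcon.2 (Finset.eq_univ_of_forall h)
      have e1 := hD y
      have e2 := hD y'
      rw [if_pos hy] at e1
      rw [if_neg hy'] at e2
      obtain ⟨i, hi⟩ := hσodd
      omega
    have e := hD 1
    rcases hcases with rfl | rfl
    · left; simpa using e.symm
    · right; left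
      simp only [Finset.mem_univ, if_true, Finset.filter_true, Finset.card_univ] at e ⊢
      omega
  set P : MonoidAlgebra ℤ C := a - c • 1 with hP
  set F : ℤ := tot P with hF
  set Δ : ℤ := c ^ 2 + k - mu with hΔ
  have hFA : F = A.card - c := by
    rw [hF, hP, sub_eq_add_neg, ← neg_smul, tot_add, tot_smul, tot_one, hta]; ring
  have hP1 : P * P + b * b' = Δ • 1 + (mu : ℤ) • all ℤ C := by
    rw [hP, hΔ, show (c ^ 2 + k - mu : ℤ) = c ^ 2 + (k - mu) by ring, add_smul]
    rw [hc, add_smul] at eqC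
    simp only [zsmul_eq_mul, mul_one, Int.cast_pow] at eqC ⊢
    linear_combination eqC
  have hP2 : 2 * (P * b) = (mu : ℤ) • all ℤ C := by
    rw [hP]
    rw [hc, add_smul] at eqD
    simp only [zsmul_eq_mul, mul_one] at eqD ⊢
    linear_combination eqD
  have e2 : 2 * (F * B.card) = (mu : ℤ) * m := by
    have := congrArg tot hP2
    rw [two_mul, tot_add, tot_mul, tot_smul, tot_all, htb, ← hF] at this
    linear_combination this
  have e1 : F * F + (B.card : ℤ) * B.card = Δ + mu * m := by
    have := congrArg tot hP1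
    rw [tot_add, tot_mul, tot_mul, tot_add, tot_smul, tot_smul, tot_all, tot_one, htb, htb', mul_one,
      ← hF] at this
    exact this
  set d := (F - B.card).natAbs
  have hd : ((d : ℤ)) ^ 2 = Δ := by
    rw [show ((d : ℤ)) ^ 2 = (F - B.card) ^ 2 from Int.natAbs_sq _]
    linear_combination e1 - e2
  have hBF : (B.card : ℤ) = F + d ∨ (B.card : ℤ) = F - d := by
    rcases Int.natAbs_eq (F - B.card) with e | e
    · right; linarith
    · left; linarith
  have hnu : P * b = ((P * b).coeff 1) • all ℤ C := by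
    ext y
    have hy := congrArg (fun x => x.coeff y) hP2
    have h1' := congrArg (fun x => x.coeff 1) hP2
    simp only [two_mul, coeff_add, Finsupp.add_apply, coeff_smul_apply, coeff_all, smul_eq_mul,
      mul_one] at hy h1' ⊢
    omega
  set ν := (P * b).coeff 1
  have hsol : Sol d P := by
    refine ⟨(mu : ℤ) * F - ν * B.card, ?_⟩
    rw [hd]
    have h3 : P ^ 3 + P * b * b' = Δ • P + ((mu : ℤ) * F) • all ℤ C := by
      rw [show P ^ 3 + P * b * b' = P * (P * P + b * b') by ring, hP1, mul_add, mul_smul_comm,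
        mul_smul_comm, mul_one, mul_comm P (all ℤ C), all_mul, smul_smul, ← hF]
    rw [hnu, smul_mul_assoc, all_mul, smul_smul, htb'] at h3
    simp only [zsmul_eq_mul] at h3 ⊢
    push_cast at h3 ⊢
    linear_combination h3
  have hPc : ∀ u, P.coeff u = ind A u - if u = 1 then c else 0 := by
    intro u
    rw [hP, sub_eq_add_neg, ← neg_smul, coeff_add, Finsupp.add_apply, coeff_smul_apply, coeff_one',
      ha, coeff_mk, smul_eq_mul]
    split_ifs <;> ring
  have hbits : ∀ u, u ≠ 1 → Bit (P.coeff u) := fun u hu => by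
    rw [hPc, if_neg hu, sub_zero]
    show ind A u = 0 ∨ ind A u = 1
    by_cases h : u ∈ A <;> simp [ind, h]
  have hlam : (lam : ℤ) = mu + 2 * c := by omega
  have hAle : A.card < m := Finset.card_lt_univ_of_notMem hA1
  have hBle : B.card ≤ m := Finset.card_le_univ B
  set l := m.minFac
  have hlp : l.Prime := Nat.minFac_prime (Nat.ne_of_gt h1)
  haveI : Fact l.Prime := ⟨hlp⟩
  have hlm : l ∣ m := Nat.minFac_dvd m
  have hl3 : 3 ≤ l := by
    have : l ≠ 2 := fun e => Nat.not_even_iff_odd.2 hodd (even_iff_two_dvd.2 (e ▸ hlm))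
    have := hlp.two_le
    omega
  have hmu0 : (0 : ℤ) ≤ mu := Int.natCast_nonneg _
  have hm2 : (2 : ℤ) ≤ m := by exact_mod_cast h1
  have hBm : (B.card : ℤ) ≤ m := by exact_mod_cast hBle
  have hgoal : (mu : ℤ) = 0 ∨ 2 * (m : ℤ) + mu = 2 * F + 2 * B.card →
      mu = 0 ∨ 2 * m + lam = 2 * (A.card + B.card) := by
    rintro (e | e)
    · left; omega
    · right; omega
  by_cases hld : l ∣ d
  swap
  · have h4 : ∀ x : ℤ, 4 * (d : ℤ) ^ 2 ≠ m * x := by
      intro x hx
      have hdv : (l : ℤ) ∣ ((4 * (d * d) : ℕ) : ℤ) := by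
        push_cast
        rw [show 4 * ((d : ℤ) * d) = 4 * (d : ℤ) ^ 2 by ring, hx]
        exact (Int.natCast_dvd_natCast.2 hlm).mul_right x
      rcases hlp.dvd_mul.1 (Int.natCast_dvd_natCast.1 hdv) with h | h
      · have := Nat.le_of_dvd (by norm_num) h
        rcases (show l = 3 ∨ l = 4 by omega) with e3 | e4
        · rw [e3] at h; omega
        · rw [e4] at hlp; exact absurd hlp (by decide)
      · exact hld ((hlp.dvd_mul.1 h).elim id id)
    exact (hgoal (arith_coprime (Int.natCast_nonneg _) hBm hm2 e2.symm h4 hBF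
      (leaf hsol hbits (by omega : l ≠ 2) hlm hld))).imp_right Or.inl
  obtain ⟨z, hz⟩ := exists_prime_orderOf_dvd_card l hlm
  have hz1 : z ≠ 1 := fun e => hlp.ne_one (by rw [← hz, e, orderOf_one])
  obtain ⟨κ, hinv, hκ, -⟩ := hsol.invariant hbits (by omega : l ≠ 2) hld hz
  by_cases hκ0 : κ = 0
  swap
  · -- twins
    right; right
    refine ⟨z, hz1, fun y hy hyz => ?_, ?_⟩
    · have := hinv (z⁻¹ * y)
      rw [mul_inv_cancel_left, if_neg hy, if_neg fun e => hyz (inv_mul_eq_one.1 e).symm, sub_zero,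
        sub_zero, hPc, hPc, if_neg hy, if_neg fun e => hyz (inv_mul_eq_one.1 e).symm, sub_zero,
        sub_zero] at this
      by_cases h1 : z⁻¹ * y ∈ A <;> by_cases h2 : y ∈ A <;> simp [ind, h1, h2] at this ⊢
    · intro y
      let Zg : MonoidAlgebra ℤ C := single z 1
      have hzall : Zg * all ℤ C = all ℤ C := by
        ext u; rw [coeff_single_mul_apply, coeff_all, coeff_all, one_mul]
      have hdiff : Zg * (P - κ • 1) = P - κ • 1 := by
        ext u
        have := hinv (z⁻¹ * u)
        rw [mul_inv_cancel_left] at this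
        rw [coeff_single_mul_apply, one_mul]
        simp only [sub_eq_add_neg, ← neg_smul, coeff_add, Finsupp.add_apply, coeff_smul_apply,
          coeff_one', smul_eq_mul]
        split_ifs at this ⊢ <;> linarith
      have hkey : κ • (Zg * b) = κ • b := by
        have h3 : Zg * (P * b) = P * b := by rw [hnu, mul_smul_comm, hzall]
        simp only [zsmul_eq_mul, mul_one] at hdiff ⊢
        linear_combination (-b) * hdiff + h3
      have := congrArg (fun x => x.coeff y) hkey
      simp only [coeff_smul_apply, smul_eq_mul, Zg, coeff_single_mul_apply, one_mul, hb', coeff_mk]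
        at this
      have h4 := mul_left_cancel₀ hκ0 this
      by_cases h1 : z⁻¹ * y ∈ B <;> by_cases h2 : y ∈ B <;> simp [ind, h1, h2] at h4 ⊢
  -- a subset
  have hb1 : Bit (P.coeff 1) := by
    rw [hκ, hκ0, add_zero]; exact hbits z hz1
  have hbAll : ∀ u, Bit (P.coeff u) := fun u => by
    by_cases hu : u = 1
    · rw [hu]; exact hb1
    · exact hbits u hu
  have hFk : F + B.card = (d : ℤ) ^ 2 + mu := by
    have h0 : P.coeff 1 = -c := by rw [hPc, if_pos rfl]; simp [ind, hA1]
    rcases hb1 with e | e <;> rw [e] at h0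
    · have hc0 : c = 0 := by omega
      rw [hd, hΔ, hFA, hk, hc0]; ring
    · have hc0 : c = -1 := by omega
      rw [hd, hΔ, hFA, hk, hc0]; ring
  have hvals : F = 0 ∨ F = d ∨ F = (m : ℤ) - d ∨ F = m := by
    rcases hb1 with e | e
    · rcases set_sol m C rfl hodd d P hsol hbAll e with h | h | h <;> rw [← hF] at h <;> omega
    · have ht : tot (all ℤ C - P) = (m : ℤ) - F := by
        simp [tot, hF, m, coeff_all, Finset.sum_sub_distrib]
      rcases set_sol m C rfl hodd d (all ℤ C - P) hsol.compl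
          (fun u => by rcases hbAll u with h | h <;> simp [Bit, coeff_all, h])
          (by simp [coeff_all, e]) with h | h | h <;> rw [ht] at h <;> omega
  have hd3 : (d : ℤ) = 0 ∨ (3 : ℤ) ≤ d := by
    rcases Nat.eq_zero_or_pos d with h | h
    · exact Or.inl (by exact_mod_cast h)
    · exact Or.inr (by exact_mod_cast le_trans hl3 (Nat.le_of_dvd h hld))
  exact (hgoal (arith_div (Int.natCast_nonneg _) hBm hmu0 hm2 e2.symm hFk hBF hd3 hvals)).imp_right
    Or.inl

end Cfsg.Agent.CyclicSrg
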