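import Cfsg.Agent.Lib.HalfNorm.Basic
import Mathlib.NumberTheory.LegendreSymbol.Basic

/-!
An orbit of triples of distinct points forming the collinear triples of lines forces degree at most
seven, when the Sylow normaliser contains all square multipliers.
-/

set_option autoImplicit false
set_option linter.style.haveILetI false
set_option linter.unusedSectionVars false

namespace Cfsg.Agent.HalfNorm

open MulAction
open Cfsg.Agent.PermModules Cfsg.Agent.PermPrime

variable {G : Type*} [Group G] {Ω : Type*} [MulAction G Ω] {p : ℕ} [Fact p.Prime]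

theorem Tri.not_three (D : Tri G Ω) : ¬ IsMultiplyPretransitive G Ω 3 := by
  classical
  intro h
  obtain ⟨a, b, c, hT⟩ := D.ex
  obtain ⟨a', b', c', n1, n2, n3, hT'⟩ := D.ex'
  let u : Fin 3 ↪ Ω := ⟨![a, b, c], fun i j => by
    fin_cases i <;> fin_cases j <;>
      simp [D.ne12 hT, D.ne13 hT, D.ne23 hT, (D.ne12 hT).symm, (D.ne13 hT).symm, (D.ne23 hT).symm]⟩
  let v : Fin 3 ↪ Ω := ⟨![a', b', c'], fun i j => by
    fin_cases i <;> fin_cases j <;> simp [n1, n2, n3, n1.symm, n2.symm, n3.symm]⟩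
  obtain ⟨g, hg⟩ := (isMultiplyPretransitive_iff.1 h) (x := u) (y := v)
  have h0 : g • a = a' := DFunLike.congr_fun hg 0
  have h1 : g • b = b' := DFunLike.congr_fun hg 1
  have h2 : g • c = c' := DFunLike.congr_fun hg 2
  exact hT' (h0 ▸ h1 ▸ h2 ▸ D.inv g hT)

/-- With `p = 1 (mod 4)` the group is triply transitive. -/
theorem mod_four_of_not_three [Finite G] [FaithfulSMul G Ω] [IsPretransitive G Ω]
    (hΩ : Nat.card Ω = p) (hG : ¬ Group.IsSolvable G) (P : Sylow p G)
    (hN : 2 * Nat.card ↥(Subgroup.normalizer ((P : Subgroup G) : Set G)) = p * (p - 1))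
    (h3 : ¬ IsMultiplyPretransitive G Ω 3) : p % 4 = 3 := by
  classical
  haveI : Finite Ω := Nat.finite_of_card_ne_zero (hΩ ▸ (Fact.out : p.Prime).ne_zero)
  haveI := Fintype.ofFinite Ω
  obtain ⟨-, hp2⟩ := exists_coords hΩ P hN
  obtain ⟨k, hk⟩ := (Fact.out : p.Prime).odd_of_ne_two hp2
  by_contra hmod
  refine h3 (PermThree.three_transitive_prime hΩ hG P ?_)
  obtain ⟨l, rfl⟩ : ∃ l, k = 2 * l := ⟨k / 2, by omega⟩
  refine ⟨p * l, ?_⟩
  rw [show p * (p - 1) = 2 * (p * l + p * l) by rw [hk, Nat.add_sub_cancel]; ring] at hN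
  omega

/-- A Netto system. -/
theorem false_of_line [Finite G] [FaithfulSMul G Ω] [IsPretransitive G Ω]
    (hΩ : Nat.card Ω = p) (hG : ¬ Group.IsSolvable G) (P : Sylow p G)
    (hN : 2 * Nat.card ↥(Subgroup.normalizer ((P : Subgroup G) : Set G)) = p * (p - 1)) (D : Tri G Ω)
    (hline : ∀ a b c d, D.T a b c → D.T a b d → c ≠ d → D.T a c d) : p ≤ 7 := by
  classical
  have hp := (Fact.out : p.Prime)
  haveI : Finite Ω := Nat.finite_of_card_ne_zero (hΩ ▸ hp.ne_zero)
  obtain ⟨⟨C⟩, -⟩ := exists_coords hΩ P hN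
  have hp5 := (not_solvable_not_affine hG C.e).2
  have h2 : IsMultiplyPretransitive G Ω 2 := (burnside hΩ).resolve_left hG
  have hmod := mod_four_of_not_three hΩ hG P hN D.not_three
  have hneg : ¬ IsSquare (-1 : ZMod p) := fun h => ZMod.exists_sq_eq_neg_one_iff.1 h hmod
  let L : ZMod p → ZMod p → ZMod p → Prop := fun i j l => D.T (C.e i) (C.e j) (C.e l)
  have Ls12 : ∀ {i j l}, L i j l → L j i l := fun h => D.s12 h
  have Ls23 : ∀ {i j l}, L i j l → L i l j := fun h => D.s23 h
  have Lne12 : ∀ {i j l}, L i j l → i ≠ j := fun h e => D.ne12 h (congrArg C.e e)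
  have Lne13 : ∀ {i j l}, L i j l → i ≠ l := fun h e => D.ne13 h (congrArg C.e e)
  have Lne23 : ∀ {i j l}, L i j l → j ≠ l := fun h e => D.ne23 h (congrArg C.e e)
  have Laff : ∀ (s m : ZMod p), IsSquare s → s ≠ 0 → ∀ {i j l}, L i j l →
      L (s * i + m) (s * j + m) (s * l + m) := by
    rintro s m ⟨k, rfl⟩ hs i j l h
    obtain ⟨g, hg⟩ := C.affine k m (fun e => hs (by rw [e, mul_zero]))
    have := D.inv g h
    rw [hg, hg, hg, pow_two] at this
    exact this
  have sqinv : ∀ {s : ZMod p}, IsSquare s → IsSquare s⁻¹ := fun {s} ⟨k, hk⟩ =>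
    ⟨k⁻¹, by rw [hk, mul_inv]⟩
  -- lines
  let Col : ZMod p → ZMod p → ZMod p → Prop := fun a b x => x = a ∨ x = b ∨ L a b x
  have Cswap : ∀ {a b x}, Col a b x → Col b a x := by
    rintro a b x (h | h | h)
    exacts [Or.inr (Or.inl h), Or.inl h, Or.inr (Or.inr (Ls12 h))]
  have Cexch : ∀ {a b c x}, c ≠ a → Col a b c → Col a b x → Col a c x := by
    intro a b c x hca hc hx
    rcases hc with hc | rfl | hc
    · exact absurd hc hca
    · exact hx
    rcases hx with hx | rfl | hx
    · exact Or.inl hx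
    · exact Or.inr (Or.inr (Ls23 hc))
    by_cases hcx : x = c
    · exact Or.inr (Or.inl hcx)
    · exact Or.inr (Or.inr (hline _ _ _ _ hc hx fun e => hcx (C.e.injective e).symm))
  have coll : ∀ {a b c d x}, c ≠ d → Col a b c → Col a b d → Col a b x → Col c d x := by
    intro a b c d x hcd hc hd hx
    by_cases hca : c = a
    · subst hca
      exact Cexch hcd.symm hd hx
    · exact Cexch hcd.symm (Cswap (Cexch hca hc hd)) (Cswap (Cexch hca hc hx))
  have Caff : ∀ (s m : ZMod p), IsSquare s → s ≠ 0 → ∀ {a b x}, Col a b x →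
      Col (s * a + m) (s * b + m) (s * x + m) := by
    rintro s m hs hs0 a b x (rfl | rfl | h)
    exacts [Or.inl rfl, Or.inr (Or.inl rfl), Or.inr (Or.inr (Laff s m hs hs0 h))]
  have Cscale : ∀ {s : ZMod p}, IsSquare s → s ≠ 0 → ∀ {x}, Col 0 1 x → Col 0 s (s * x) := by
    intro s hs hs0 x hx
    simpa using Caff s 0 hs hs0 hx
  have Cscale' : ∀ {s : ZMod p}, IsSquare s → s ≠ 0 → ∀ {x}, Col 0 s x → Col 0 1 (s⁻¹ * x) := by
    intro s hs hs0 x hx
    have := Caff s⁻¹ 0 (sqinv hs) (inv_ne_zero hs0) hx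
    simpa [hs0] using this
  have Ctr : ∀ (m : ZMod p) {a b x}, Col a b x → Col (a + m) (b + m) (x + m) := by
    intro m a b x h
    simpa using Caff 1 m IsSquare.one one_ne_zero h
  have pairs : ∀ {a b : Ω}, a ≠ b → ∃ g : G, g • a = C.e 0 ∧ g • b = C.e 1 := fun h =>
    (is_two_pretransitive_iff.1 h2) h (C.e.injective.ne zero_ne_one)
  -- a third point on the standard line
  obtain ⟨δ₀, hδ₀⟩ : ∃ δ, L 0 1 δ := by
    obtain ⟨a, b, c, hT⟩ := D.ex
    obtain ⟨g, ga, gb⟩ := pairs (D.ne12 hT)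
    obtain ⟨δ, hδ⟩ := C.e.surjective (g • c)
    refine ⟨δ, ?_⟩
    show D.T _ _ _
    rw [hδ, ← ga, ← gb]
    exact D.inv g hT
  have one_ne : ∀ {x : ZMod p}, ¬ IsSquare x → x ≠ 0 := fun h e => h (e ▸ IsSquare.zero)
  obtain ⟨c, hcS, hcN⟩ : ∃ c, Col 0 1 c ∧ ¬ IsSquare c := by
    by_contra hcon
    simp only [not_exists, not_and, not_not] at hcon
    have key : ∀ δ, L 0 1 δ → ¬ IsSquare (δ - 1) := by
      intro δ hδ hsq
      have hk0 : δ - 1 ≠ 0 := sub_ne_zero.2 (Lne23 hδ).symm
      have h := Ctr (-1) (show Col 0 1 δ from Or.inr (Or.inr hδ))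
      rw [zero_add, add_neg_cancel, ← sub_eq_add_neg] at h
      have h' : Col 0 (δ - 1) (-1) := Cexch hk0 (Cswap h) (Or.inr (Or.inl rfl))
      have := hcon _ (Cscale' hsq hk0 h')
      exact hneg (by simpa [hk0] using hsq.mul this)
    have hδ0 : δ₀ ≠ 0 := (Lne13 hδ₀).symm
    have hsq : IsSquare δ₀ := hcon _ (Or.inr (Or.inr hδ₀))
    have hinvL : L 0 1 δ₀⁻¹ := by
      have := Laff δ₀⁻¹ 0 (sqinv hsq) (inv_ne_zero hδ0) hδ₀
      simp [hδ0] at this
      exact Ls23 this
    refine key _ hinvL ?_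
    have e : δ₀⁻¹ - 1 = (-1 * (δ₀ - 1)) * δ₀⁻¹ := by field_simp; ring
    rw [e]
    exact (isSquare_of_mul _ _ hneg (key _ hδ₀)).mul (sqinv hsq)
  have hc0 := one_ne hcN
  have hc1 : c ≠ 1 := fun e => hcN (e ▸ IsSquare.one)
  -- lines through the origin
  have lines : ∀ {x : ZMod p}, x ≠ 0 → ∃ k, IsSquare k ∧ k ≠ 0 ∧ Col 0 k x := by
    intro x hx
    by_cases hs : IsSquare x
    · exact ⟨x, hs, hx, Or.inr (Or.inl rfl)⟩
    have hk : IsSquare (x * c⁻¹) := isSquare_of_mul _ _ hs fun h => hcN (by simpa using sqinv h)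
    have hk0 : x * c⁻¹ ≠ 0 := mul_ne_zero hx (inv_ne_zero hc0)
    refine ⟨_, hk, hk0, ?_⟩
    simpa [mul_assoc, hc0] using Cscale hk hk0 hcS
  have hD1 : ∀ δ, Col 0 1 δ → IsSquare δ → δ ≠ 0 → δ = 1 := by
    intro δ hδ hsq hδ0
    by_contra hδ1
    have inv : ∀ y, Col 0 1 y → Col 0 1 (δ * y) := fun y hy =>
      coll zero_ne_one (Or.inl rfl) (Cswap (Cexch hδ0 hδ (Or.inr (Or.inl rfl))) |> Cswap)
        (Cscale hsq hδ0 hy)
    have inv' : ∀ y, Col 0 1 (δ * y) → Col 0 1 y := fun y hy => by
      simpa [hδ0] using Cscale' hsq hδ0 (Cexch hδ0 hδ hy)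
    obtain ⟨k, hk, hk0, hkl⟩ := lines (neg_ne_zero.2 (one_ne_zero (α := ZMod p)))
    have hn : (0 : ZMod p) ≠ -1 := (neg_ne_zero.2 one_ne_zero).symm
    have shift : ∀ z, Col 0 1 z → Col 0 1 (z - δ + 1) := by
      intro z hz
      obtain ⟨y, rfl⟩ : ∃ y, z = δ * y := ⟨δ⁻¹ * z, by simp [hδ0]⟩
      have h1 := Ctr (-1) (inv' y hz)
      rw [zero_add, add_neg_cancel] at h1
      have h3 : Col 0 k (y + -1) :=
        coll hk0.symm (Or.inl rfl) (Cexch hn.symm hkl (Or.inr (Or.inl rfl))) (Cswap h1)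
      have h4 := Cscale hk hk0 (inv _ (Cscale' hk hk0 h3))
      rw [show k * (δ * (k⁻¹ * (y + -1))) = δ * y - δ by field_simp; ring] at h4
      have h5 : Col (-1) 0 (δ * y - δ) := Cswap (Cexch hn.symm hkl h4)
      simpa using Ctr 1 h5
    have all : ∀ n : ℕ, Col 0 1 ((n : ZMod p) * (1 - δ)) := by
      intro n
      induction n with
      | zero => exact Or.inl (by simp)
      | succ n ih => convert shift _ ih using 1; push_cast; ring
    obtain ⟨a, b, d, n1, n2, n3, hT⟩ := D.ex'
    obtain ⟨g, ga, gb⟩ := pairs n1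
    obtain ⟨x, hx⟩ := C.e.surjective (g • d)
    have hxS : Col 0 1 x := by
      have := all (x / (1 - δ)).val
      rwa [ZMod.natCast_zmod_val, div_mul_cancel₀ _ (sub_ne_zero.2 (Ne.symm hδ1))] at this
    rcases hxS with rfl | rfl | h
    · exact n2 (smul_left_cancel g (ga.trans hx))
    · exact n3 (smul_left_cancel g (gb.trans hx))
    · refine hT ((D.inv_iff g).1 ?_)
      rw [ga, gb, ← hx]
      exact h
  have hC1 : ∀ x, Col 0 1 x → ¬ IsSquare x → x = c := by
    intro x hx hxN
    have hk : IsSquare (x * c⁻¹) := isSquare_of_mul _ _ hxN fun h => hcN (by simpa using sqinv h)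
    have hk0 : x * c⁻¹ ≠ 0 := mul_ne_zero (one_ne hxN) (inv_ne_zero hc0)
    have h : Col 0 (x * c⁻¹) x := by simpa [mul_assoc, hc0] using Cscale hk hk0 hcS
    have h1 : Col 0 x (x * c⁻¹) := Cexch (one_ne hxN) h (Or.inr (Or.inl rfl))
    have h2 : Col 0 1 (x * c⁻¹) :=
      coll zero_ne_one (Or.inl rfl) (Cexch (one_ne hxN) hx (Or.inr (Or.inl rfl))) h1
    exact (mul_inv_eq_one₀ hc0).1 (hD1 _ h2 hk hk0)
  have hL : ∀ {x}, L 0 1 x → x = c := by
    intro x hx
    by_cases hs : IsSquare x
    · exact absurd (hD1 x (Or.inr (Or.inr hx)) hs (Lne13 hx).symm) (Lne23 hx).symm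
    · exact hC1 x (Or.inr (Or.inr hx)) hs
  have hLc : L 0 1 c := by
    rcases hcS with h | h | h
    exacts [absurd h hc0, absurd h hc1, h]
  -- third point
  have hsqL : ∀ {i j}, IsSquare (j - i) → j ≠ i → ∀ {l}, L i j l ↔ l = i + c * (j - i) := by
    intro i j hs hne l
    have hd : j - i ≠ 0 := sub_ne_zero.2 hne
    constructor
    · intro h
      have h1 := Laff (j - i)⁻¹ (-((j - i)⁻¹ * i)) (sqinv hs) (inv_ne_zero hd) h
      rw [show (j - i)⁻¹ * i + -((j - i)⁻¹ * i) = 0 by ring,
        show (j - i)⁻¹ * j + -((j - i)⁻¹ * i) = (j - i)⁻¹ * (j - i) by ring, inv_mul_cancel₀ hd] at h1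
      have h2 := hL h1
      rw [← h2]; field_simp; ring
    · rintro rfl
      have h1 := Laff (j - i) i hs hd hLc
      rw [mul_zero, zero_add, mul_one, sub_add_cancel] at h1
      rwa [add_comm i, mul_comm c]
  have hquad : c * c - c + 1 = 0 := by
    have h1 := Ctr (-1) hcS
    rw [zero_add, add_neg_cancel] at h1
    have hn : (0 : ZMod p) ≠ -1 := (neg_ne_zero.2 one_ne_zero).symm
    obtain ⟨k, hk, hk0, hkl⟩ := lines (neg_ne_zero.2 (one_ne_zero (α := ZMod p)))
    have hck : -1 = c * k := by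
      rcases hkl with h | h | h
      · exact absurd h.symm hn
      · exact absurd (h ▸ hk) hneg
      · simpa using (hsqL (by simpa using hk) hk0).1 h
    have h3 : Col 0 k (c + -1) :=
      coll hk0.symm (Or.inl rfl) (Cexch hn.symm hkl (Or.inr (Or.inl rfl))) (Cswap h1)
    rcases h3 with h | h | h
    · exact absurd (by linear_combination h) hc1
    · linear_combination c * h - hck
    · have h4 := (hsqL (by simpa using hk) hk0).1 h
      exact absurd (by linear_combination h4 - hck) hc0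
  let f : ZMod p → ZMod p → ZMod p := fun i j =>
    if IsSquare (j - i) then i + c * (j - i) else i + (1 - c) * (j - i)
  have hf : ∀ {i j}, i ≠ j → ∀ {l}, L i j l ↔ l = f i j := by
    intro i j hij l
    by_cases hs : IsSquare (j - i)
    · simp only [f, if_pos hs]
      exact hsqL hs hij.symm
    · simp only [f, if_neg hs]
      have hs' : IsSquare (i - j) := by
        have := isSquare_of_mul _ _ hneg hs
        simpa using this
      rw [show L i j l ↔ L j i l from ⟨Ls12, Ls12⟩, hsqL hs' hij,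
        show i + (1 - c) * (j - i) = j + c * (i - j) by ring]
  have cv : ∀ {g : G} {a b : ZMod p}, g • C.e a = C.e a → a = b → g • C.e b = C.e b := by
    rintro g a _ h rfl
    exact h
  have gfix : ∀ (g : G) {i j}, i ≠ j → g • C.e i = C.e i → g • C.e j = C.e j →
      g • C.e (f i j) = C.e (f i j) := by
    intro g i j hij hi hj
    have h := D.inv g ((hf hij).2 rfl)
    obtain ⟨l, hl⟩ := C.e.surjective (g • C.e (f i j))
    rw [hi, hj, ← hl] at h
    rw [← hl, (hf hij).1 h]
  have hc10 : 1 + c ≠ 0 := by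
    intro h
    have h3 : ((3 : ℕ) : ZMod p) = 0 := by
      push_cast
      linear_combination hquad - (c - 2) * h
    rw [ZMod.natCast_eq_zero_iff] at h3
    have := Nat.le_of_dvd (by norm_num) h3
    omega
  let Fix : G → ZMod p → Prop := fun g m =>
    g • C.e (m + 1) = C.e (m + 1) ∧ g • C.e (m + c) = C.e (m + c) ∧
      g • C.e (m + (1 + c)) = C.e (m + (1 + c))
  have fval : ∀ i j m, f (m + i) (m + j) = m + f i j := fun i j m => by
    simp only [f, add_sub_add_left_eq_sub]
    split_ifs <;> ring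
  have hsq1 : IsSquare (c - 1) := by
    rw [show c - 1 = -1 * (c⁻¹) by field_simp; linear_combination hquad]
    exact isSquare_of_mul _ _ hneg fun h => hcN (by simpa using sqinv h)
  have fa : f 1 c = 0 := by
    simp only [f, if_pos hsq1]; linear_combination hquad
  have fb : f c (1 + c) = 2 * c := by
    simp only [f, add_sub_cancel_right, IsSquare.one, if_true]; ring
  have fc : f 1 (1 + c) = 2 := by
    simp only [f, add_sub_cancel_left, hcN, if_false]; linear_combination -hquad
  obtain ⟨t, ht, step⟩ : ∃ t ≠ 0, ∀ g m, Fix g m → Fix g (m + t) := by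
    have base : ∀ g m, Fix g m → g • C.e m = C.e m ∧ g • C.e (m + 2 * c) = C.e (m + 2 * c) ∧
        g • C.e (m + 2) = C.e (m + 2) ∧ g • C.e (m + f 0 (1 + c)) = C.e (m + f 0 (1 + c)) := by
      rintro g m ⟨h1, hcc, h1c⟩
      have e0 := gfix g (fun e => hc1 (add_left_cancel e).symm) h1 hcc
      rw [fval, fa, add_zero] at e0
      have e2c := gfix g (fun e => one_ne_zero (α := ZMod p) (by linear_combination -(add_left_cancel e)))
        hcc h1c
      rw [fval, fb] at e2c
      have e2 := gfix g (fun e => hc0 (by linear_combination -(add_left_cancel e))) h1 h1c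
      rw [fval, fc] at e2
      have e := gfix g (i := m + 0) (j := m + (1 + c)) (fun e => hc10 (add_left_cancel e).symm)
        (by simpa using e0) h1c
      rw [fval] at e
      exact ⟨e0, e2c, e2, e⟩
    by_cases hs : IsSquare (1 + c)
    · refine ⟨c - 1, sub_ne_zero.2 hc1, fun g m hm => ?_⟩
      obtain ⟨e0, e2c, e2, e⟩ := base g m hm
      rw [show f 0 (1 + c) = 2 * c - 1 by
        simp only [f, sub_zero, if_pos hs]; linear_combination hquad] at e
      refine ⟨?_, ?_, ?_⟩
      · exact cv hm.2.1 (by ring)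
      · exact cv e (by ring)
      · exact cv e2c (by ring)
    · refine ⟨1 - c, sub_ne_zero.2 hc1.symm, fun g m hm => ?_⟩
      obtain ⟨e0, e2c, e2, e⟩ := base g m hm
      rw [show f 0 (1 + c) = 2 - c by
        simp only [f, sub_zero, if_neg hs]; linear_combination -hquad] at e
      refine ⟨?_, ?_, ?_⟩
      · exact cv e (by ring)
      · exact cv hm.1 (by ring)
      · exact cv e2 (by ring)
  have hone : ∀ g, Fix g 0 → g = 1 := by
    intro g hg
    have all : ∀ n : ℕ, Fix g ((n : ZMod p) * t) := by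
      intro n
      induction n with
      | zero => simpa using hg
      | succ n ih => rw [Nat.cast_succ, add_mul, one_mul]; exact step g _ ih
    refine FaithfulSMul.eq_of_smul_eq_smul fun x : Ω => ?_
    obtain ⟨y, rfl⟩ := C.e.surjective x
    have h := (all ((y - 1) / t).val).1
    rw [ZMod.natCast_zmod_val, div_mul_cancel₀ _ ht, sub_add_cancel] at h
    rw [h, one_smul]
  -- the order of the group
  have hbad : ¬ L 1 c (1 + c) := fun h => hc10 (((hf hc1.symm).1 h).trans fa)
  have hsim : Nat.card G = p * (p - 1) * (p - 3) := by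
    let A : Finset (ZMod p × ZMod p) := (Finset.univ : Finset (ZMod p)).offDiag
    let B : ZMod p × ZMod p → Finset (ZMod p) := fun x => Finset.univ \ {x.1, x.2, f x.1 x.2}
    have hval : ∀ g : G, ∃ x : (_ : ZMod p × ZMod p) × ZMod p, x ∈ A.sigma B ∧
        C.e x.1.1 = g • C.e 1 ∧ C.e x.1.2 = g • C.e c ∧ C.e x.2 = g • C.e (1 + c) := by
      intro g
      refine ⟨⟨(C.e.symm (g • C.e 1), C.e.symm (g • C.e c)), C.e.symm (g • C.e (1 + c))⟩, ?_,
        by simp, by simp, by simp⟩
      simp only [Finset.mem_sigma, A, B, Finset.mem_offDiag, Finset.mem_univ, true_and,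
        Finset.mem_sdiff, Finset.mem_insert, Finset.mem_singleton, not_or, ne_eq,
        EmbeddingLike.apply_eq_iff_eq, smul_left_cancel_iff]
      refine ⟨hc1.symm, fun e => hc0 (by linear_combination e), fun e => one_ne_zero (α := ZMod p)
        (by linear_combination e), fun e => ?_⟩
      have hne : C.e.symm (g • C.e 1) ≠ C.e.symm (g • C.e c) := by simpa using hc1.symm
      have h := (hf hne).2 e
      refine hbad ((D.inv_iff g).1 ?_)
      simpa [L] using h
    choose v hv hv1 hv2 hv3 using hval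
    let F : G → ↥(A.sigma B) := fun g => ⟨v g, hv g⟩
    have hF : Function.Bijective F := by
      constructor
      · intro g h e
        have e' : v g = v h := congrArg Subtype.val e
        have : g⁻¹ * h = 1 := hone _ ⟨?_, ?_, ?_⟩
        · exact inv_mul_eq_one.1 this
        all_goals rw [zero_add, mul_smul, inv_smul_eq_iff]
        · rw [← hv1 g, ← hv1 h, e']
        · rw [← hv2 g, ← hv2 h, e']
        · rw [← hv3 g, ← hv3 h, e']
      · rintro ⟨⟨⟨i, j⟩, l⟩, hx⟩
        simp only [Finset.mem_sigma, A, B, Finset.mem_offDiag, Finset.mem_univ, true_and,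
          Finset.mem_sdiff, Finset.mem_insert, Finset.mem_singleton, not_or] at hx
        obtain ⟨hij, hli, hlj, hl⟩ := hx
        obtain ⟨g, g1, g2, g3⟩ := D.orbit' (C.e.injective.ne hc1.symm)
          (C.e.injective.ne fun e => hc0 (by linear_combination -e))
          (C.e.injective.ne fun e => one_ne_zero (α := ZMod p) (by linear_combination -e)) hbad
          (C.e.injective.ne hij) (C.e.injective.ne (Ne.symm hli)) (C.e.injective.ne (Ne.symm hlj))
          (fun h => hl ((hf hij).1 h))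
        refine ⟨g, Subtype.ext ?_⟩
        have e1 := C.e.injective ((hv1 g).trans g1)
        have e2 := C.e.injective ((hv2 g).trans g2)
        have e3 := C.e.injective ((hv3 g).trans g3)
        exact Sigma.ext (Prod.ext e1 e2) (heq_of_eq e3)
    rw [Nat.card_eq_of_bijective F hF, Nat.card_eq_fintype_card, Fintype.card_coe,
      Finset.card_sigma, Finset.sum_const_nat (m := p - 3) fun x hx => ?_, Finset.offDiag_card,
      Finset.card_univ, ZMod.card, Nat.mul_sub_one]
    have hx' : x.1 ≠ x.2 := (Finset.mem_offDiag.1 hx).2.2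
    have h := (hf hx').2 rfl
    rw [Finset.card_sdiff_of_subset (Finset.subset_univ _), Finset.card_univ, ZMod.card,
      Finset.card_insert_of_notMem (by simp [hx', Lne13 h]), Finset.card_pair (Lne23 h)]
  have hind := Subgroup.card_mul_index (Subgroup.normalizer ((P : Subgroup G) : Set G))
  rw [hsim] at hind
  have hn : (Subgroup.normalizer ((P : Subgroup G) : Set G)).index = 2 * (p - 3) := by
    have h : p * (p - 1) * (Subgroup.normalizer ((P : Subgroup G) : Set G)).index =
        p * (p - 1) * (2 * (p - 3)) := by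
      rw [← hN, mul_assoc 2, hind, hN]; ring
    exact Nat.eq_of_mul_eq_mul_left (Nat.mul_pos hp.pos (by omega)) h
  have hmod1 : 2 * (p - 3) ≡ 1 [MOD p] := by
    rw [← hn]
    have h := card_sylow_modEq_one p G
    rw [P.card_eq_index_normalizer] at h
    exact h
  have h1 : (2 * (p - 3)) % p = 1 % p := hmod1
  rw [Nat.one_mod_eq_one.2 hp.one_lt.ne'] at h1
  by_contra h7
  rw [show 2 * (p - 3) = p + (p - 6) by omega, Nat.add_mod_left, Nat.mod_eq_of_lt (by omega)] at h1
  omega

end Cfsg.Agent.HalfNorm
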