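import Cfsg.Agent.Lib.HalfNorm.Torus
import Cfsg.Agent.Lib.HalfNorm.Netto
import Cfsg.Agent.Lib.HalfNorm.CyclicSrg
import Cfsg.Agent.Lib.Perm.ThreeTransitive
import Mathlib.GroupTheory.GroupAction.Primitive
import Mathlib.GroupTheory.Perm.Cycle.Concrete

/-!
An even permutation group of degree `p + 1` properly containing a doubly transitive `PSL(2, p)` has
triply transitive point stabilisers.
-/

set_option autoImplicit false
set_option linter.style.haveILetI false
set_option linter.unusedSectionVars false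

namespace Cfsg.Agent.Overgroup

open MulAction
open Cfsg.Agent.PermModules Cfsg.Agent.PermPrime

section Prime

variable {p : ℕ} [Fact p.Prime] {G : Type*} [Group G] [Finite G] {Ω : Type*} [MulAction G Ω]
  [FaithfulSMul G Ω] [IsPretransitive G Ω]

/-- A solvable group of prime degree has a normal Sylow subgroup. -/
theorem normalizer_eq_top_of_solvable (hΩ : Nat.card Ω = p) (hG : Group.IsSolvable G) (P : Sylow p G) :
    Subgroup.normalizer ((P : Subgroup G) : Set G) = ⊤ := by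
  classical
  have hp := (Fact.out : p.Prime)
  haveI : Finite Ω := Nat.finite_of_card_ne_zero (hΩ ▸ hp.ne_zero)
  haveI : IsPreprimitive G Ω := IsPreprimitive.of_prime_card (hΩ ▸ hp)
  have hP := sylow_card hΩ P
  have hnt : Nontrivial G := by
    by_contra h
    rw [not_nontrivial_iff_subsingleton] at h
    have := P.1.card_le_card_group
    rw [hP, Nat.card_unique] at this
    have := hp.one_lt
    omega
  obtain ⟨n, hn⟩ := (Group.isSolvable_def (G := G)).1 hG
  have hex : ∃ k, derivedSeries G k = ⊥ := ⟨n, hn⟩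
  obtain ⟨k, hk⟩ : ∃ k, Nat.find hex = k + 1 := by
    rcases Nat.eq_zero_or_pos (Nat.find hex) with h | h
    · have := Nat.find_spec hex
      rw [h, derivedSeries_zero] at this
      exact absurd this top_ne_bot
    · exact ⟨Nat.find hex - 1, by omega⟩
  set A := derivedSeries G k with hA
  have hA1 : A ≠ ⊥ := Nat.find_min hex (by omega)
  have hA2 : ∀ a ∈ A, ∀ b ∈ A, a * b = b * a := by
    intro a ha b hb
    have h := Nat.find_spec hex
    rw [hk, derivedSeries_succ, Subgroup.commutator_eq_bot_iff_le_centralizer] at h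
    exact (Subgroup.mem_centralizer_iff.1 (h ha) b hb).symm
  haveI : A.Normal := derivedSeries_normal G k
  have hmove : fixedPoints A Ω ≠ Set.univ := by
    intro h
    refine hA1 ((Subgroup.eq_bot_iff_forall _).2 fun a ha => FaithfulSMul.eq_of_smul_eq_smul fun x : Ω => ?_)
    rw [one_smul]
    exact (h ▸ Set.mem_univ x : x ∈ fixedPoints A Ω) ⟨a, ha⟩
  haveI : IsPretransitive A Ω := IsQuasiPreprimitive.isPretransitive_of_normal hmove
  obtain ⟨x₀⟩ : Nonempty Ω := (Nat.card_pos_iff.1 (hΩ ▸ hp.pos)).1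
  have hst : stabilizer A x₀ = ⊥ := by
    refine (Subgroup.eq_bot_iff_forall _).2 fun a ha => Subtype.ext ?_
    refine FaithfulSMul.eq_of_smul_eq_smul fun x : Ω => ?_
    obtain ⟨b, rfl⟩ := exists_smul_eq A x₀ x
    show (a : G) • (b : G) • x₀ = (1 : G) • (b : G) • x₀
    rw [one_smul, smul_smul, hA2 a a.2 b b.2, mul_smul, show (a : G) • x₀ = x₀ from ha]
  have hAc : Nat.card A = p := by
    have h := (stabilizer A x₀).card_mul_index
    rw [index_stabilizer_of_transitive, hΩ, hst, Subgroup.card_bot, one_mul] at h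
    exact h.symm
  obtain ⟨Q, hQ⟩ := (IsPGroup.of_card (n := 1) (hAc.trans (pow_one p).symm) : IsPGroup p A).exists_le_sylow
  have hQA : A = (Q : Subgroup G) :=
    Subgroup.eq_of_le_of_card_ge hQ (by rw [hAc, sylow_card hΩ Q])
  haveI : (Q : Subgroup G).Normal := hQA ▸ inferInstance
  have htop : Subgroup.normalizer ((Q : Subgroup G) : Set G) = ⊤ := Subgroup.normalizer_eq_top_iff.2 inferInstance
  obtain ⟨g, hg⟩ := exists_smul_eq G Q P
  rw [← hg, Sylow.smul_eq_iff_mem_normalizer.2 (show g ∈ _ from htop ▸ Subgroup.mem_top g)]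
  exact htop

/-- For even permutations the normaliser is not the whole affine group. -/
theorem card_normalizer_half (hΩ : Nat.card Ω = p) (P : Sylow p G) {m : ℕ} (hm : p = 2 * m + 1)
    (hlow : p * m ∣ Nat.card (Subgroup.normalizer ((P : Subgroup G) : Set G)))
    (hsign : ∀ [Fintype Ω] [DecidableEq Ω] (g : G), Equiv.Perm.sign (toPerm g : Equiv.Perm Ω) = 1) :
    2 * Nat.card (Subgroup.normalizer ((P : Subgroup G) : Set G)) = p * (p - 1) := by
  classical
  have hp := (Fact.out : p.Prime)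
  haveI : Finite Ω := Nat.finite_of_card_ne_zero (hΩ ▸ hp.ne_zero)
  haveI := Fintype.ofFinite Ω
  have hP := sylow_card hΩ P
  obtain ⟨⟨τ, hτP⟩, ho⟩ := exists_prime_orderOf_dvd_card' p (dvd_of_eq hP.symm)
  rw [Subgroup.orderOf_mk] at ho
  have hPz : (P : Subgroup G) = Subgroup.zpowers τ := by
    refine (Subgroup.eq_of_le_of_card_ge (Subgroup.zpowers_le.2 hτP) ?_).symm
    rw [Nat.card_zpowers, ho, hP]
  obtain ⟨a, ha⟩ : ∃ a : Ω, τ • a ≠ a := by
    refine Classical.byContradiction fun h => ?_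
    simp only [not_exists, not_not] at h
    have : τ = 1 := FaithfulSMul.eq_of_smul_eq_smul fun x : Ω => by rw [h x, one_smul]
    rw [this, orderOf_one] at ho
    exact hp.one_lt.ne ho
  obtain ⟨e, -, he⟩ := coord_of_element hΩ
    (fun x => by rw [← ho, pow_orderOf_eq_one, one_smul]) ha
  have hpow : ∀ (n : ℕ) j, τ ^ n • e j = e (j + n) := by
    intro n
    induction n with
    | zero => simp
    | succ n ih => intro j; rw [pow_succ', mul_smul, ih, he, Nat.cast_succ, add_assoc]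
  set N := Subgroup.normalizer ((P : Subgroup G) : Set G) with hNdef
  have haff : ∀ s : N, ∃ k m : ZMod p, ∀ j, (s : G) • e j = e (k * j + m) := by
    rintro ⟨s, hs⟩
    have hconj : s * τ * s⁻¹ ∈ Subgroup.zpowers τ := by
      rw [← hPz]; exact (Subgroup.mem_normalizer_iff.1 hs τ).1 hτP
    obtain ⟨n, hn⟩ := ((isOfFinOrder_of_finite τ).mem_powers_iff_mem_zpowers).2 hconj
    simp only at hn
    refine ⟨n, e.symm (s • e 0), fun j => ?_⟩
    have hform : ∀ i : ℕ, s • e (i : ZMod p) = e ((n : ZMod p) * i + e.symm (s • e 0)) := by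
      intro i
      induction i with
      | zero => simp
      | succ i ih =>
        rw [Nat.cast_succ, ← he, smul_smul, show s * τ = τ ^ n * s by rw [hn]; group, mul_smul, ih,
          hpow]
        congr 1; ring
    simpa using hform j.val
  choose k c hkc using haff
  have hk : ∀ s : N, k s = e.symm ((s : G) • e 1) - e.symm ((s : G) • e 0) := fun s => by simp [hkc]
  have hkne : ∀ s : N, k s ≠ 0 := by
    intro s h
    have h0 := hkc s 0
    have h1 := hkc s 1
    rw [h, zero_mul] at h0 h1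
    exact zero_ne_one (e.injective (smul_left_cancel _ (h0.trans h1.symm)))
  let ψ : N →* (ZMod p)ˣ := MonoidHom.mk' (fun s => Units.mk0 (k s) (hkne s)) fun s t => by
    ext
    simp only [Units.val_mk0, Units.val_mul]
    rw [hk (s * t)]
    simp [mul_smul, hkc]
    ring
  have hker : Nat.card ψ.ker ∣ p := by
    refine (dvd_of_eq (Nat.card_congr
      (ψ.ker.equivMapOfInjective N.subtype N.subtype_injective).toEquiv)).trans
      ((Subgroup.card_dvd_of_le ?_).trans (dvd_of_eq hP))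
    rintro _ ⟨s, hs, rfl⟩
    have hk1 : k s = 1 := congrArg Units.val (MonoidHom.mem_ker.1 hs)
    have : (s : G) = τ ^ (c s).val := FaithfulSMul.eq_of_smul_eq_smul fun x : Ω => by
      obtain ⟨j, rfl⟩ := e.surjective x
      rw [hkc, hpow, hk1, one_mul, ZMod.natCast_zmod_val]
    show (s : G) ∈ (P : Subgroup G)
    rw [this]
    exact pow_mem hτP _
  have hR : Nat.card ψ.range ∣ p - 1 := by
    refine (Subgroup.card_subgroup_dvd_card _).trans (dvd_of_eq ?_)
    rw [Nat.card_eq_fintype_card, ZMod.card_units_eq_totient, Nat.totient_prime hp]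
  have hcard := ψ.ker.card_mul_index
  rw [Subgroup.index_ker] at hcard
  obtain ⟨t, ht⟩ := hlow
  have hN2 : Nat.card N ∣ p * (p - 1) := hcard ▸ Nat.mul_dvd_mul hker hR
  have ht2 : t ∣ 2 := by
    rw [ht, show p * (p - 1) = p * m * 2 by rw [hm, Nat.add_sub_cancel]; ring] at hN2
    refine Nat.dvd_of_mul_dvd_mul_left (Nat.pos_of_ne_zero fun h => ?_) hN2
    rcases Nat.mul_eq_zero.1 h with h' | h'
    · exact hp.ne_zero h'
    · have := hp.two_le; omega
  rcases (Nat.dvd_prime Nat.prime_two).1 ht2 with rfl | rfl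
  · rw [ht, hm, Nat.add_sub_cancel]; ring
  exfalso
  -- every multiplier occurs
  have hfull : ψ.range = ⊤ := by
    refine Subgroup.eq_top_of_le_card _ ?_
    rw [Nat.card_eq_fintype_card, ZMod.card_units_eq_totient, Nat.totient_prime hp]
    have h1 : p * (p - 1) ≤ p * Nat.card ψ.range := by
      have h2 : Nat.card ψ.ker * Nat.card ψ.range ≤ p * Nat.card ψ.range :=
        Nat.mul_le_mul_right _ (Nat.le_of_dvd hp.pos hker)
      rw [hcard, ht] at h2
      calc p * (p - 1) = p * m * 2 := by rw [hm, Nat.add_sub_cancel]; ring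
        _ ≤ _ := h2
    exact Nat.le_of_mul_le_mul_left h1 hp.pos
  obtain ⟨u, hu⟩ := IsCyclic.exists_generator (α := (ZMod p)ˣ)
  obtain ⟨s, hs⟩ := (hfull.ge (Subgroup.mem_top u) : u ∈ ψ.range)
  have hku : k s = (u : ZMod p) := congrArg Units.val hs
  set g : G := τ ^ (-(c s)).val * s
  have hg : ∀ j, g • e j = e ((u : ZMod p) * j) := fun j => by
    rw [mul_smul, hkc, hpow, ZMod.natCast_zmod_val, hku, add_neg_cancel_right]
  let σ : Equiv.Perm (ZMod p) := (e.trans (toPerm g)).trans e.symm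
  have hσ : ∀ j, σ j = (u : ZMod p) * j := fun j => by simp [σ, hg]
  have hσs : Equiv.Perm.sign σ = 1 := by
    have : σ = (e.symm.permCongr) (toPerm g : Equiv.Perm Ω) := by ext j; simp [σ]
    rw [this, Equiv.Perm.sign_permCongr, hsign g]
  have hpw : ∀ (n : ℕ) j, (σ ^ n) j = (u : ZMod p) ^ n * j := by
    intro n
    induction n with
    | zero => simp
    | succ n ih => intro j; rw [pow_succ', Equiv.Perm.mul_apply, ih, hσ, pow_succ', mul_assoc]
  have hu1 : (u : ZMod p) ≠ 1 := by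
    intro h
    have hu' : u = 1 := Units.ext h
    have h1 : Nat.card (ZMod p)ˣ = 1 := by
      rw [← Subgroup.card_top, ← (Subgroup.eq_top_iff' _).2 hu, hu', Nat.card_zpowers, orderOf_one]
    rw [Nat.card_eq_fintype_card, ZMod.card_units_eq_totient, Nat.totient_prime hp] at h1
    omega
  have hmoved : ∀ j, σ j ≠ j ↔ j ≠ 0 := fun j => by
    rw [hσ]
    refine ⟨fun h e => h (by rw [e, mul_zero]), fun h e => hu1 ?_⟩
    exact mul_right_cancel₀ h (e.trans (one_mul j).symm)
  have hcyc : σ.IsCycle := by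
    refine ⟨1, (hmoved 1).2 one_ne_zero, fun y hy => ?_⟩
    obtain ⟨n, hn⟩ := (isOfFinOrder_of_finite u).mem_powers_iff_mem_zpowers.2
      (hu (Units.mk0 y ((hmoved y).1 hy)))
    refine ⟨(n : ℤ), ?_⟩
    rw [zpow_natCast, hpw, mul_one, ← Units.val_pow_eq_pow_val]
    exact congrArg Units.val hn
  have hsupp : σ.support.card = p - 1 := by
    rw [show σ.support = Finset.univ.erase 0 from Finset.ext fun j => by simp [hmoved],
      Finset.card_erase_of_mem (Finset.mem_univ _), Finset.card_univ, ZMod.card]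
  rw [hcyc.sign, hsupp, hm, Nat.add_sub_cancel, pow_mul] at hσs
  simp at hσs

end Prime

variable {p : ℕ} [Fact p.Prime] {X : Type*} [Group X] [Finite X] {Ω : Type*} [MulAction X Ω]
  [FaithfulSMul X Ω] [Fintype Ω] [DecidableEq Ω]

/-- The counting argument on the graph on the points other than two given ones. -/
theorem not_tri {m : ℕ} (L : Subgroup X) (T : Torus (p := p) L Ω m) (hp7 : 7 < p)
    (hΩ : Nat.card Ω = p + 1) (hm : p = 2 * m + 1) (hmodd : Odd m)
    (h2 : IsMultiplyPretransitive X Ω 2)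
    (D : HalfNorm.Tri (stabilizer X T.α) (SubMulAction.ofStabilizer X T.α))
    (hfin : ∀ E : HalfNorm.Tri (stabilizer X T.α) (SubMulAction.ofStabilizer X T.α),
      ¬ ∀ a b c d, E.T a b c → E.T a b d → c ≠ d → E.T a c d) : False := by
  classical
  haveI : IsPretransitive X Ω := isPretransitive_of_is_two_pretransitive (G := X) (α := Ω)
  let pt : ∀ x : Ω, x ≠ T.α → SubMulAction.ofStabilizer X T.α := fun x hx =>
    ⟨x, (SubMulAction.mem_ofStabilizer_iff X T.α).2 hx⟩
  have hpt : ∀ (x : SubMulAction.ofStabilizer X T.α), (x : Ω) ≠ T.α := fun x =>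
    (SubMulAction.mem_ofStabilizer_iff X T.α).1 x.2
  let R : Ω → Ω → Ω → Prop := fun x y z =>
    ∃ a b c : SubMulAction.ofStabilizer X T.α, (a : Ω) = x ∧ (b : Ω) = y ∧ (c : Ω) = z ∧ D.T a b c
  have hR : ∀ a b c : SubMulAction.ofStabilizer X T.α, R a b c ↔ D.T a b c := by
    refine fun a b c => ⟨?_, fun h => ⟨a, b, c, rfl, rfl, rfl, h⟩⟩
    rintro ⟨a', b', c', e1, e2, e3, h⟩
    rwa [← Subtype.ext e1, ← Subtype.ext e2, ← Subtype.ext e3]
  have hRinv : ∀ h : X, h • T.α = T.α → ∀ {x y z}, R x y z → R (h • x) (h • y) (h • z) := by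
    rintro h hh x y z ⟨a, b, c, rfl, rfl, rfl, hD⟩
    exact ⟨_, _, _, rfl, rfl, rfl, D.inv ⟨h, hh⟩ hD⟩
  -- the relation on quadruples
  let Q : Ω → Ω → Ω → Ω → Prop := fun a b c d =>
    ∃ g : X, g • a = T.α ∧ R (g • b) (g • c) (g • d)
  have hQat : ∀ {g : X} {a b c d : Ω}, g • a = T.α → (Q a b c d ↔ R (g • b) (g • c) (g • d)) := by
    intro g a b c d hg
    refine ⟨fun ⟨g', hg', h⟩ => ?_, fun h => ⟨g, hg, h⟩⟩
    have := hRinv (g * g'⁻¹) (by rw [mul_smul, inv_smul_eq_iff.2 hg'.symm, hg]) h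
    simpa [mul_smul] using this
  have hQα : ∀ {b c d : Ω}, Q T.α b c d ↔ R b c d := fun {b c d} => by
    simpa using hQat (g := 1) (one_smul X T.α) (b := b) (c := c) (d := d)
  have hQinv : ∀ (g : X) {a b c d : Ω}, Q (g • a) (g • b) (g • c) (g • d) ↔ Q a b c d := by
    intro g a b c d
    obtain ⟨k, hk⟩ := exists_smul_eq X (g • a) T.α
    rw [hQat hk, hQat (g := k * g) (by rw [mul_smul, hk])]
    simp [mul_smul]
  let Dis : Ω → Ω → Ω → Ω → Prop := fun a b c d =>
    a ≠ b ∧ a ≠ c ∧ a ≠ d ∧ b ≠ c ∧ b ≠ d ∧ c ≠ d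
  have hQne : ∀ {a b c d}, Q a b c d → Dis a b c d := by
    rintro a b c d ⟨g, hg, u, v, w, e1, e2, e3, hD⟩
    have n : ∀ {y z : Ω} {s t : SubMulAction.ofStabilizer X T.α}, (s : Ω) = g • y → (t : Ω) = g • z →
        s ≠ t → y ≠ z := fun h1 h2 hne e => hne (Subtype.ext (by rw [h1, h2, e]))
    have na : ∀ {y : Ω} {s : SubMulAction.ofStabilizer X T.α}, (s : Ω) = g • y → a ≠ y :=
      fun h1 e => hpt _ (h1.trans (e ▸ hg))
    exact ⟨na e1, na e2, na e3, n e1 e2 (D.ne12 hD), n e1 e3 (D.ne13 hD), n e2 e3 (D.ne23 hD)⟩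
  have orb : ∀ {a b c d a' b' c' d'}, Q a b c d → Q a' b' c' d' →
      ∃ h : X, h • a = a' ∧ h • b = b' ∧ h • c = c' ∧ h • d = d' := by
    rintro a b c d a' b' c' d' ⟨g, hg, u, v, w, e1, e2, e3, hD⟩ ⟨g', hg', u', v', w', k1, k2, k3, hD'⟩
    obtain ⟨h, h1, h2, h3⟩ := D.orbit hD hD'
    have c1 : (h : X) • (u : Ω) = u' := congrArg Subtype.val h1
    have c2 : (h : X) • (v : Ω) = v' := congrArg Subtype.val h2
    have c3 : (h : X) • (w : Ω) = w' := congrArg Subtype.val h3
    refine ⟨g'⁻¹ * (h : X) * g, ?_, ?_, ?_, ?_⟩ <;> rw [mul_smul, mul_smul, inv_smul_eq_iff]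
    · rw [hg, hg']; exact h.2
    · rw [← e1, c1, k1]
    · rw [← e2, c2, k2]
    · rw [← e3, c3, k3]
  have orb' : ∀ {a b c d a' b' c' d'}, Dis a b c d → ¬ Q a b c d → Dis a' b' c' d' → ¬ Q a' b' c' d' →
      ∃ h : X, h • a = a' ∧ h • b = b' ∧ h • c = c' ∧ h • d = d' := by
    intro a b c d a' b' c' d' hd hQ hd' hQ'
    obtain ⟨g, hg⟩ := exists_smul_eq X a T.α
    obtain ⟨g', hg'⟩ := exists_smul_eq X a' T.α
    rw [hQat hg] at hQ
    rw [hQat hg'] at hQ'
    obtain ⟨n1, n2, n3, n4, n5, n6⟩ := hd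
    obtain ⟨n1', n2', n3', n4', n5', n6'⟩ := hd'
    have nα : ∀ {f : X} {s y : Ω}, f • s = T.α → s ≠ y → f • y ≠ T.α := fun hf hne e =>
      hne (smul_left_cancel _ (hf.trans e.symm))
    have nn : ∀ (f : X) {y z : Ω} (hy : f • y ≠ T.α) (hz : f • z ≠ T.α), y ≠ z →
        pt _ hy ≠ pt _ hz := fun f y z hy hz hne e =>
      hne (smul_left_cancel f (congrArg Subtype.val e))
    obtain ⟨h, h1, h2, h3⟩ := D.orbit' (nn g (nα hg n1) (nα hg n2) n4) (nn g (nα hg n1) (nα hg n3) n5)
      (nn g (nα hg n2) (nα hg n3) n6) (fun h => hQ ((hR _ _ _).2 h))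
      (nn g' (nα hg' n1') (nα hg' n2') n4') (nn g' (nα hg' n1') (nα hg' n3') n5')
      (nn g' (nα hg' n2') (nα hg' n3') n6') (fun h => hQ' ((hR _ _ _).2 h))
    have c1 : (h : X) • g • b = g' • b' := congrArg Subtype.val h1
    have c2 : (h : X) • g • c = g' • c' := congrArg Subtype.val h2
    have c3 : (h : X) • g • d = g' • d' := congrArg Subtype.val h3
    refine ⟨g'⁻¹ * (h : X) * g, ?_, ?_, ?_, ?_⟩ <;> rw [mul_smul, mul_smul, inv_smul_eq_iff]
    · rw [hg, hg']; exact h.2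
    exacts [c1, c2, c3]
  have q34 : ∀ {a b c d}, Q a b c d → Q a b d c := by
    rintro a b c d ⟨g, hg, u, v, w, e1, e2, e3, hD⟩
    exact ⟨g, hg, u, w, v, e1, e3, e2, D.s23 hD⟩
  have q23 : ∀ {a b c d}, Q a b c d → Q a c b d := by
    rintro a b c d ⟨g, hg, u, v, w, e1, e2, e3, hD⟩
    exact ⟨g, hg, v, u, w, e2, e1, e3, D.s12 hD⟩
  -- the exchange of the first two places preserves the relation
  have q12 : ∀ {a b c d}, Q a b c d → Q b a c d := by
    by_contra hcon
    simp only [not_forall] at hcon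
    obtain ⟨a₁, b₁, c₁, d₁, hq₁, hq₁'⟩ := hcon
    have A1 : ∀ {a b c d}, Q a b c d → ¬ Q b a c d := by
      intro a b c d h h'
      obtain ⟨f, rfl, rfl, rfl, rfl⟩ := orb h hq₁
      exact hq₁' ((hQinv f).2 h')
    have A2 : ∀ {a b c d}, Dis a b c d → ¬ Q a b c d → Q b a c d := by
      intro a b c d hd hn
      by_contra hn'
      obtain ⟨n1, n2, n3, n4, n5, n6⟩ := hQne hq₁
      obtain ⟨f, rfl, rfl, rfl, rfl⟩ := orb' hd hn ⟨n1.symm, n4, n5, n2, n3, n6⟩ (A1 hq₁)
      exact hn' ((hQinv f).1 hq₁)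
    obtain ⟨n1, n2, n3, n4, n5, n6⟩ := hQne hq₁
    have b1 : ¬ Q c₁ a₁ b₁ d₁ := A1 (q23 hq₁)
    have b2 : ¬ Q b₁ c₁ a₁ d₁ := fun h => A1 hq₁ (q23 h)
    exact b1 (q23 (A2 ⟨n4, n1.symm, n5, n2.symm, n6, n3⟩ b2))
  -- the graph
  let V : Ω → Prop := fun x => x ≠ T.α ∧ x ≠ T.β
  let adj : Ω → Ω → Prop := fun x y => Q T.α T.β x y
  have hadjV : ∀ {x y}, adj x y → V x ∧ V y ∧ x ≠ y := fun h =>
    let ⟨_, n2, n3, n4, n5, n6⟩ := hQne h
    ⟨⟨n2.symm, n4.symm⟩, ⟨n3.symm, n5.symm⟩, n6⟩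
  have hadjsym : ∀ {x y}, adj x y → adj y x := fun h => q34 h
  have hadjinv : ∀ g : X, g • T.α = T.α → g • T.β = T.β → ∀ x y, adj (g • x) (g • y) ↔ adj x y :=
    fun g h1 h2 x y => by
      show Q T.α T.β (g • x) (g • y) ↔ _
      conv_lhs => rw [← h1, ← h2]
      exact hQinv g
  have hwadj : ∀ x y, adj (T.w • x) (T.w • y) ↔ adj x y := fun x y => by
    constructor <;> intro h
    · refine (hQinv T.w).1 ?_
      rw [T.wα, T.wβ]
      exact q12 h
    · have := (hQinv T.w).2 h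
      rw [T.wα, T.wβ] at this
      exact q12 this
  have hVinv : ∀ g : X, g • T.α = T.α → g • T.β = T.β → ∀ x, V x → V (g • x) := fun g h1 h2 x hx =>
    ⟨fun e => hx.1 (smul_left_cancel g (e.trans h1.symm)),
     fun e => hx.2 (smul_left_cancel g (e.trans h2.symm))⟩
  have hVw : ∀ x, V x → V (T.w • x) := fun x hx =>
    ⟨fun e => hx.2 (smul_left_cancel T.w (e.trans T.wβ.symm)),
     fun e => hx.1 (smul_left_cancel T.w (e.trans T.wα.symm))⟩
  have pairA : ∀ {x y x' y'}, adj x y → adj x' y' →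
      ∃ g : X, g • T.α = T.α ∧ g • T.β = T.β ∧ g • x = x' ∧ g • y = y' := fun h h' => orb h h'
  have hDis : ∀ {x y}, V x → V y → x ≠ y → Dis T.α T.β x y := fun hx hy hne =>
    ⟨T.ne, hx.1.symm, hy.1.symm, hx.2.symm, hy.2.symm, hne⟩
  have pairN : ∀ {x y x' y'}, V x → V y → x ≠ y → ¬ adj x y → V x' → V y' → x' ≠ y' → ¬ adj x' y' →
      ∃ g : X, g • T.α = T.α ∧ g • T.β = T.β ∧ g • x = x' ∧ g • y = y' :=
    fun h1 h2 h3 h k1 k2 k3 k => orb' (hDis h1 h2 h3) h (hDis k1 k2 k3) k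
  -- moving a triple of the stabiliser to the graph
  have toGraph : ∀ (E : HalfNorm.Tri (stabilizer X T.α) (SubMulAction.ofStabilizer X T.α))
      (Φ : Ω → Ω → Prop),
      (∀ (x y : SubMulAction.ofStabilizer X T.α),
        E.T (pt T.β T.ne.symm) x y → Φ (x : Ω) (y : Ω)) →
      (∀ (x y : SubMulAction.ofStabilizer X T.α),
        Φ (x : Ω) (y : Ω) → E.T (pt T.β T.ne.symm) x y) →
      (∀ x y z, Φ x y → Φ y z → x ≠ z → Φ x z) → False := by
    intro E Φ hto hfrom htrans
    refine hfin E fun a b c d h1 h2' hcd => ?_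
    obtain ⟨g, ga, gb⟩ := (is_two_pretransitive_iff.1 h2) (hpt a).symm T.ne
    let g' : stabilizer X T.α := ⟨g, ga⟩
    have hg' : g' • a = pt T.β T.ne.symm := Subtype.ext gb
    refine (E.inv_iff g').1 ?_
    rw [hg']
    have e1 := E.inv g' (E.s23 h1)
    have e2 := E.inv g' h2'
    rw [hg'] at e1 e2
    exact hfrom _ _ (htrans _ _ _ (hto _ _ e1) (hto _ _ e2)
      fun e => hcd (smul_left_cancel g' (Subtype.ext e)))
  have adjD : ∀ (x y : SubMulAction.ofStabilizer X T.α),
      adj x y ↔ D.T (pt T.β T.ne.symm) x y := fun x y => hQα.trans (hR (pt T.β T.ne.symm) x y)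
  have lineA : (∀ x y z, adj x y → adj y z → x ≠ z → adj x z) → False := fun h =>
    toGraph D adj (fun x y hxy => (adjD x y).2 hxy) (fun x y hxy => (adjD x y).1 hxy) h
  have lineN : (∀ x y z, V x → V y → V z → x ≠ y → y ≠ z → x ≠ z → ¬ adj x y → ¬ adj y z → ¬ adj x z) →
      False := fun h =>
    toGraph D.compl (fun x y => V x ∧ V y ∧ x ≠ y ∧ ¬ adj x y)
      (fun x y ⟨h1, h2', h3, h4⟩ => ⟨⟨hpt x, fun e => h1 (Subtype.ext e.symm)⟩,
        ⟨hpt y, fun e => h2' (Subtype.ext e.symm)⟩, fun e => h3 (Subtype.ext e),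
        fun e => h4 ((adjD x y).1 e)⟩)
      (fun x y ⟨h1, h2', h3, h4⟩ => ⟨fun e => h1.2 (congrArg Subtype.val e).symm,
        fun e => h2'.2 (congrArg Subtype.val e).symm, fun e => h3 (congrArg Subtype.val e),
        fun e => h4 ((adjD x y).2 e)⟩)
      (fun x y z ⟨a1, a2, a3, a4⟩ ⟨_, b2, b3, b4⟩ hne =>
        ⟨a1, b2, hne, h x y z a1 a2 b2 a3 b3 hne a4 b4⟩)
  -- a base point
  obtain ⟨x₀, hx₀, y₁, hy₁⟩ : ∃ x, V x ∧ ∃ y, adj x y := by
    obtain ⟨a, b, c, h⟩ := D.ex
    obtain ⟨g, ga, gb⟩ := (is_two_pretransitive_iff.1 h2) (hpt a).symm T.ne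
    let g' : stabilizer X T.α := ⟨g, ga⟩
    have h' := D.inv g' h
    rw [show g' • a = pt T.β T.ne.symm from Subtype.ext gb] at h'
    exact ⟨_, (hadjV ((adjD _ _).2 h')).1, _, (adjD _ _).2 h'⟩
  -- coordinates
  haveI : IsCyclic T.T := T.cyclic
  letI : CommGroup T.T := IsCyclic.commGroup
  haveI : Fintype T.T := Fintype.ofFinite _
  have hcardT : Fintype.card T.T = m := by rw [← Nat.card_eq_fintype_card, T.card]
  have hTinv : ∀ u : T.T, (u : X) • T.α = T.α ∧ (u : X) • T.β = T.β :=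
    fun u => ⟨T.fixα _ u.2, T.fixβ _ u.2⟩
  have hwu : ∀ (u : T.T) (x : Ω), T.w • (u : X) • x = ((u⁻¹ : T.T) : X) • T.w • x := by
    intro u x
    rw [smul_smul, smul_smul]
    congr 1
    have := T.w_inv u u.2
    rw [Subgroup.coe_inv, ← this]
    group
  let P0 : T.T → Ω := fun u => (u : X) • x₀
  let P1 : T.T → Ω := fun u => (u : X) • T.w • x₀
  have hV0 : ∀ u, V (P0 u) := fun u => hVinv _ (hTinv u).1 (hTinv u).2 _ hx₀
  have hV1 : ∀ u, V (P1 u) := fun u => hVinv _ (hTinv u).1 (hTinv u).2 _ (hVw _ hx₀)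
  have inj0 : ∀ {u v : T.T}, P0 u = P0 v → u = v := by
    intro u v h
    have h' : ((v⁻¹ * u : T.T) : X) • x₀ = x₀ := by
      rw [Subgroup.coe_mul, Subgroup.coe_inv, mul_smul, inv_smul_eq_iff]; exact h
    exact (inv_mul_eq_one.1 (Subtype.ext (T.free _ (v⁻¹ * u).2 _ hx₀.1 hx₀.2 h'))).symm
  have inj1 : ∀ {u v : T.T}, P1 u = P1 v → u = v := by
    intro u v h
    have h' : T.w • P1 u = T.w • P1 v := by rw [h]
    simp only [P1, hwu, smul_smul T.w T.w, T.w_sq, one_smul] at h'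
    exact inv_injective (inj0 h')
  have inj01 : ∀ u v : T.T, P0 u ≠ P1 v := by
    intro u v h
    -- an involution of odd order
    set s : T.T := v⁻¹ * u
    have hs : T.w • x₀ = (s : X) • x₀ := by
      rw [Subgroup.coe_mul, Subgroup.coe_inv, mul_smul, eq_inv_smul_iff]; exact h.symm
    set z : X := (s : X)⁻¹ * T.w
    have hzL : z ∈ L := L.mul_mem (L.inv_mem (T.le s.2)) T.w_mem
    have hzx : z • x₀ = x₀ := by rw [mul_smul, hs, inv_smul_smul]
    have hz2 : z ^ 2 = 1 := by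
      have h1 := T.w_inv (s : X)⁻¹ (T.T.inv_mem s.2)
      rw [inv_inv, show T.w⁻¹ = T.w from inv_eq_of_mul_eq_one_right T.w_sq] at h1
      calc z ^ 2 = (s : X)⁻¹ * (T.w * (s : X)⁻¹ * T.w) := by simp only [z, pow_two]; group
        _ = 1 := by rw [h1, inv_mul_cancel]
    have hz1 : z ≠ 1 := by
      intro hz
      refine T.ne ?_
      rw [← T.wα, show T.w = (s : X) from (inv_mul_eq_one.1 hz).symm, T.fixα _ s.2]
    have ho : orderOf z ∣ p * m := by
      have hmem : (⟨z, hzL⟩ : L) ∈ stabilizer L x₀ := hzx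
      have h1 := orderOf_dvd_natCard (⟨⟨z, hzL⟩, hmem⟩ : stabilizer L x₀)
      rwa [Subgroup.orderOf_mk, Subgroup.orderOf_mk, T.stab] at h1
    rw [orderOf_eq_prime hz2 hz1] at ho
    have : Odd (p * m) := Nat.odd_mul.2 ⟨⟨m, hm⟩, hmodd⟩
    exact Nat.not_even_iff_odd.2 this (even_iff_two_dvd.2 ho)
  let F : T.T ⊕ T.T → {x : Ω // V x} := Sum.elim (fun u => ⟨P0 u, hV0 u⟩) (fun u => ⟨P1 u, hV1 u⟩)
  have hF : Function.Bijective F := by
    refine (Fintype.bijective_iff_injective_and_card F).2 ⟨?_, ?_⟩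
    · rintro (u | u) (v | v) h <;> have h' := congrArg Subtype.val h
      · exact congrArg Sum.inl (inj0 h')
      · exact absurd h' (inj01 u v)
      · exact absurd h'.symm (inj01 v u)
      · exact congrArg Sum.inr (inj1 h')
    · rw [Fintype.card_sum, hcardT, Fintype.card_subtype]
      have : (Finset.univ.filter fun x : Ω => V x) = ((Finset.univ.erase T.α).erase T.β) := by
        ext x; simp [V, and_comm]
      rw [this, Finset.card_erase_of_mem (by simp [T.ne.symm]), Finset.card_erase_of_mem (Finset.mem_univ _),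
        Finset.card_univ, ← Nat.card_eq_fintype_card, hΩ]
      omega
  have cases' : ∀ x, V x → (∃ u, x = P0 u) ∨ ∃ u, x = P1 u := by
    intro x hx
    obtain ⟨u | u, h⟩ := hF.2 ⟨x, hx⟩
    · exact Or.inl ⟨u, (congrArg Subtype.val h).symm⟩
    · exact Or.inr ⟨u, (congrArg Subtype.val h).symm⟩
  have hsplit : ∀ S : Ω → Prop, (∀ x, S x → V x) →
      (Finset.univ.filter S).card = (Finset.univ.filter fun u => S (P0 u)).card +
        (Finset.univ.filter fun u => S (P1 u)).card := by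
    intro S hS
    rw [← Finset.card_disjSum]
    refine (Finset.card_bij (fun s _ => (F s : Ω)) ?_ ?_ ?_).symm
    · rintro (u | u) hu <;> simpa [F] using hu
    · exact fun a _ b _ h => hF.1 (Subtype.ext h)
    · intro x hx
      obtain ⟨s, hs⟩ := hF.2 ⟨x, hS x (Finset.mem_filter.1 hx).2⟩
      refine ⟨s, ?_, congrArg Subtype.val hs⟩
      have hx' : S (F s : Ω) := by rw [hs]; exact (Finset.mem_filter.1 hx).2
      rcases s with u | u <;> simpa [F] using hx'
  let A : Finset T.T := Finset.univ.filter fun u => adj x₀ (P0 u)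
  let B : Finset T.T := Finset.univ.filter fun u => adj x₀ (P1 u)
  have mA : ∀ u, u ∈ A ↔ adj x₀ (P0 u) := fun u => by simp [A]
  have mB : ∀ u, u ∈ B ↔ adj x₀ (P1 u) := fun u => by simp [B]
  have hA1 : (1 : T.T) ∉ A := fun h => (hadjV ((mA 1).1 h)).2.2 (one_smul X x₀).symm
  have hsymA : ∀ u ∈ A, u⁻¹ ∈ A := by
    intro u hu
    rw [mA] at hu ⊢
    refine hadjsym ((hadjinv _ (hTinv u).1 (hTinv u).2 _ _).1 ?_)
    simpa [P0, smul_smul] using hu
  have hAinv : ∀ u, u⁻¹ ∈ A ↔ u ∈ A := fun u => ⟨fun h => by simpa using hsymA _ h, hsymA u⟩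
  -- neighbourhoods
  have n00 : ∀ y u, adj (P0 y) (P0 u) ↔ y⁻¹ * u ∈ A := fun y u => by
    rw [mA, ← hadjinv _ (hTinv y).1 (hTinv y).2 x₀]
    simp [P0, smul_smul]
  have n01 : ∀ y u, adj (P0 y) (P1 u) ↔ y⁻¹ * u ∈ B := fun y u => by
    rw [mB, ← hadjinv _ (hTinv y).1 (hTinv y).2 x₀]
    simp [P0, P1, smul_smul, mul_assoc]
  have n10 : ∀ y u, adj (P1 y) (P0 u) ↔ u⁻¹ * y ∈ B := fun y u => by
    rw [← n01]; exact ⟨hadjsym, hadjsym⟩
  have n11 : ∀ y u, adj (P1 y) (P1 u) ↔ y⁻¹ * u ∈ A := fun y u => by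
    have hP : ∀ v : T.T, T.w • P1 v = P0 v⁻¹ := fun v => by
      simp only [P0, P1, hwu, smul_smul T.w T.w, T.w_sq, one_smul]
    rw [← hwadj, hP, hP, n00, ← hAinv, mul_inv_rev, inv_inv, inv_inv, mul_comm]
  let cn : Ω → Ω → ℕ := fun x y => (Finset.univ.filter fun z => adj x z ∧ adj y z).card
  have cn_inv : ∀ g : X, g • T.α = T.α → g • T.β = T.β → ∀ x y, cn (g • x) (g • y) = cn x y := by
    intro g h1 h2' x y
    refine (Finset.card_equiv (toPerm g) fun z => ?_).symm
    simp [hadjinv g h1 h2']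
  obtain ⟨lam, hlam⟩ : ∃ lam, ∀ x y, adj x y → cn x y = lam := by
    refine ⟨cn x₀ y₁, fun x y h => ?_⟩
    obtain ⟨g, g1, g2, rfl, rfl⟩ := pairA hy₁ h
    exact cn_inv g g1 g2 _ _
  obtain ⟨mu, hmu⟩ : ∃ mu, ∀ x y, V x → V y → x ≠ y → ¬ adj x y → cn x y = mu := by
    by_cases hex : ∃ x y, V x ∧ V y ∧ x ≠ y ∧ ¬ adj x y
    · obtain ⟨x₂, y₂, a1, a2, a3, a4⟩ := hex
      refine ⟨cn x₂ y₂, fun x y b1 b2 b3 b4 => ?_⟩
      obtain ⟨g, g1, g2, rfl, rfl⟩ := pairN a1 a2 a3 a4 b1 b2 b3 b4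
      exact cn_inv g g1 g2 _ _
    · exact ⟨0, fun x y b1 b2 b3 b4 => absurd ⟨x, y, b1, b2, b3, b4⟩ hex⟩
  have cn_split : ∀ x y, cn x y = (Finset.univ.filter fun u => adj x (P0 u) ∧ adj y (P0 u)).card +
      (Finset.univ.filter fun u => adj x (P1 u) ∧ adj y (P1 u)).card := fun x y =>
    (by convert hsplit (fun z => adj x z ∧ adj y z) fun z hz => (hadjV hz.1).2.1)
  have hx0 : P0 1 = x₀ := one_smul X x₀
  have hC : ∀ y, y ≠ 1 → (A.filter fun u => y⁻¹ * u ∈ A).card + (B.filter fun u => y⁻¹ * u ∈ B).card =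
      if y ∈ A then lam else mu := by
    intro y hy
    have h1 : (A.filter fun u => y⁻¹ * u ∈ A) =
        Finset.univ.filter fun u => adj x₀ (P0 u) ∧ adj (P0 y) (P0 u) := by
      ext u; simp [A, n00]
    have h2' : (B.filter fun u => y⁻¹ * u ∈ B) =
        Finset.univ.filter fun u => adj x₀ (P1 u) ∧ adj (P0 y) (P1 u) := by
      ext u; simp [B, n01]
    rw [h1, h2', ← cn_split]
    split_ifs with h
    · exact hlam _ _ ((mA y).1 h)
    · exact hmu _ _ hx₀ (hV0 y) (fun e => hy (inj0 (hx0.trans e)).symm) fun e => h ((mA y).2 e)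
  have hD : ∀ y, 2 * (A.filter fun u => u⁻¹ * y ∈ B).card = if y ∈ B then lam else mu := by
    intro y
    have h1 : (A.filter fun u => u⁻¹ * y ∈ B) =
        Finset.univ.filter fun u => adj x₀ (P0 u) ∧ adj (P1 y) (P0 u) := by
      ext u; simp [A, n10]
    have h2' : (A.filter fun u => u⁻¹ * y ∈ B).card =
        (Finset.univ.filter fun u => adj x₀ (P1 u) ∧ adj (P1 y) (P1 u)).card := by
      refine Finset.card_bij' (fun u _ => u⁻¹ * y) (fun u _ => u⁻¹ * y) ?_ ?_ ?_ ?_
      · intro u hu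
        simp only [Finset.mem_filter, Finset.mem_univ, true_and] at hu ⊢
        refine ⟨(mB _).1 hu.2, (n11 _ _).2 ?_⟩
        rw [mul_comm u⁻¹, inv_mul_cancel_left]
        exact hsymA _ hu.1
      · intro u hu
        simp only [Finset.mem_filter, Finset.mem_univ, true_and] at hu ⊢
        refine ⟨?_, ?_⟩
        · rw [← hAinv, mul_inv_rev, inv_inv]; exact (n11 _ _).1 hu.2
        · rw [mul_inv_rev, inv_inv, mul_comm y⁻¹, mul_assoc, inv_mul_cancel, mul_one]
          exact (mB _).2 hu.1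
      all_goals
        intro u _
        simp [mul_comm y⁻¹, mul_assoc]
    rw [two_mul]
    nth_rw 2 [h2']
    rw [h1, ← cn_split]
    split_ifs with h
    · exact hlam _ _ ((mB y).1 h)
    · exact hmu _ _ hx₀ (hV1 y) (fun e => inj01 1 y (hx0.trans e)) fun e => h ((mB y).2 e)
  have hcard1 : 1 < Fintype.card T.T := by omega
  rcases CyclicSrg.dihedral_srg (hcardT.symm ▸ hmodd) hcard1 A B hA1 hsymA lam mu hC hD with h | h | h
  · -- adjacency is an equivalence
    refine lineA fun x y z hxy hyz hxz => ?_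
    by_contra hn
    have h' := hmu x z (hadjV hxy).1 (hadjV hyz).2.1 hxz hn
    rw [h] at h'
    have : y ∈ Finset.univ.filter fun u => adj x u ∧ adj z u := by simp [hxy, hadjsym hyz]
    rw [Finset.card_eq_zero.1 h'] at this
    simp at this
  · -- nonadjacency is an equivalence
    let N : Ω → Finset Ω := fun x => Finset.univ.filter fun z => adj x z
    have hN : ∀ x, V x → (N x).card = A.card + B.card := by
      intro x hx
      have base : (N x₀).card = A.card + B.card := hsplit _ fun z hz => (hadjV hz).2.1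
      rw [← base]
      rcases cases' x hx with ⟨u, rfl⟩ | ⟨u, rfl⟩
      · refine (Finset.card_equiv (toPerm (u : X)) fun z => ?_).symm
        simp [N, P0, hadjinv _ (hTinv u).1 (hTinv u).2]
      · refine (Finset.card_equiv (toPerm ((u : X) * T.w)) fun z => ?_).symm
        simp [N, P1, mul_smul, hadjinv _ (hTinv u).1 (hTinv u).2, hwadj]
    refine lineN fun x y z hx hy hz _ hyz' hxz' hxy hyz hxz => ?_
    have hall : N x ∪ N z = Finset.univ.filter V := by
      refine Finset.eq_of_subset_of_card_le (fun t ht => ?_) ?_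
      · rcases Finset.mem_union.1 ht with ht | ht <;>
          exact Finset.mem_filter.2 ⟨Finset.mem_univ _, (hadjV (Finset.mem_filter.1 ht).2).2.1⟩
      · have e1 := Finset.card_union_add_card_inter (N x) (N z)
        have e2 : (N x ∩ N z).card = lam := by rw [← Finset.filter_and]; exact hlam x z hxz
        have e3 : (Finset.univ.filter V).card = 2 * m := by
          rw [← Fintype.card_subtype, ← Fintype.card_of_bijective hF, Fintype.card_sum, hcardT, two_mul]
        rw [hN x hx, hN z hz, e2] at e1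
        omega
    have : y ∈ N x ∪ N z := by rw [hall]; simp [hy]
    simp only [Finset.mem_union, N, Finset.mem_filter, Finset.mem_univ, true_and] at this
    exact this.elim hxy fun h => hyz (hadjsym h)
  · -- twins
    obtain ⟨z, hz1, hzA, hzB⟩ := h
    have tw : ∀ y, y ≠ x₀ → y ≠ P0 z → (adj x₀ y ↔ adj (P0 z) y) := by
      intro y hy1 hy2
      by_cases hy : V y
      · rcases cases' y hy with ⟨u, rfl⟩ | ⟨u, rfl⟩
        · rw [n00, ← mA]
          exact (hzA u (fun e => hy1 (by rw [e, hx0])) (fun e => hy2 (by rw [e]))).symm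
        · rw [n01, ← mB]; exact (hzB u).symm
      · exact ⟨fun h => absurd (hadjV h).2.1 hy, fun h => absurd (hadjV h).2.1 hy⟩
    have hne : x₀ ≠ P0 z := fun e => hz1 (inj0 (hx0.trans e)).symm
    have tw' : ∀ g : X, g • T.α = T.α → g • T.β = T.β → ∀ y, y ≠ g • x₀ → y ≠ g • P0 z →
        (adj (g • x₀) y ↔ adj (g • P0 z) y) := by
      intro g g1 g2 y h1 h2'
      rw [← smul_inv_smul g y, hadjinv g g1 g2, hadjinv g g1 g2]
      exact tw _ (fun e => h1 (by rw [← e, smul_inv_smul])) (fun e => h2' (by rw [← e, smul_inv_smul]))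
    by_cases ha : adj x₀ (P0 z)
    · refine lineA fun x y w hxy hyw hxw => ?_
      obtain ⟨g, g1, g2, rfl, rfl⟩ := pairA ha hxy
      exact (tw' g g1 g2 w hxw.symm (hadjV hyw).2.2.symm).2 hyw
    · refine lineN fun x y w hx hy hw hxy hyw hxw nxy nyw hh => ?_
      obtain ⟨g, g1, g2, rfl, rfl⟩ := pairN hx₀ (hV0 z) hne ha hx hy hxy nxy
      exact nyw ((tw' g g1 g2 w hxw.symm hyw.symm).1 hh)

/-- The point stabilisers are triply transitive. -/
theorem four_transitive {p : ℕ} (hp : p.Prime) (hp7 : 7 < p) (hΩ : Nat.card Ω = p + 1)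
    (heven : ∀ x : X, Equiv.Perm.sign (toPerm x : Equiv.Perm Ω) = 1)
    (L : Subgroup X) (e : L ≃* Matrix.ProjectiveSpecialLinearGroup (Fin 2) (ZMod p))
    (hLt : IsMultiplyPretransitive L Ω 2) (hLX : L ≠ ⊤) :
    IsMultiplyPretransitive X Ω 4 := by
  classical
  haveI : Fact p.Prime := ⟨hp⟩
  obtain ⟨m, hm⟩ := hp.odd_of_ne_two (by omega)
  obtain ⟨T⟩ := exists_torus hp7 hΩ L e hLt hm
  have h2 : IsMultiplyPretransitive X Ω 2 := by
    rw [is_two_pretransitive_iff]
    intro a b c d hab hcd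
    obtain ⟨g, g1, g2⟩ := (is_two_pretransitive_iff.1 hLt) hab hcd
    exact ⟨g, g1, g2⟩
  haveI : IsPretransitive X Ω := isPretransitive_of_is_two_pretransitive (G := X) (α := Ω)
  rw [show (4 : ℕ) = Nat.succ 3 from rfl, SubMulAction.ofStabilizer.isMultiplyPretransitive (a := T.α)]
  set G := stabilizer X T.α
  set Ω' := SubMulAction.ofStabilizer X T.α
  have hpt : ∀ (x : Ω'), (x : Ω) ≠ T.α := fun x => (SubMulAction.mem_ofStabilizer_iff X T.α).1 x.2
  have hΩ' : Nat.card Ω' = p := by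
    rw [SubMulAction.nat_card_ofStabilizer_eq, hΩ, Nat.add_sub_cancel]
  haveI : FaithfulSMul G Ω' := ⟨fun {g h} hgh => Subtype.ext (FaithfulSMul.eq_of_smul_eq_smul fun x : Ω => by
    by_cases hx : x = T.α
    · rw [hx]; exact (show (g : X) • T.α = T.α from g.2).trans (show (h : X) • T.α = T.α from h.2).symm
    · exact congrArg Subtype.val (hgh ⟨x, (SubMulAction.mem_ofStabilizer_iff X T.α).2 hx⟩))⟩
  haveI : IsPretransitive G Ω' := ⟨fun x y => by
    obtain ⟨g, g1, g2⟩ := (is_two_pretransitive_iff.1 h2) (hpt x).symm (hpt y).symm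
    exact ⟨⟨g, g1⟩, Subtype.ext g2⟩⟩
  let H : Subgroup G := L.subgroupOf G
  have hH : Nat.card H = p * m := by
    rw [← T.stab T.α]
    exact Nat.card_congr ⟨fun h => ⟨⟨((h : G) : X), h.2⟩, (h : G).2⟩,
      fun k => ⟨⟨((k : L) : X), k.2⟩, (k : L).2⟩, fun _ => rfl, fun _ => rfl⟩
  obtain ⟨Q⟩ : Nonempty (Sylow p H) := inferInstance
  have hQc : Nat.card (Q : Subgroup H) = p := by
    rw [Q.card_eq_multiplicity, hH, Nat.factorization_mul hp.ne_zero (by omega), Finsupp.add_apply,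
      hp.factorization_self, Nat.factorization_eq_zero_of_not_dvd
        (fun hdv => by have := Nat.le_of_dvd (by omega) hdv; omega), pow_one]
  haveI : Subsingleton (Sylow p H) := by
    have h1 : Nat.card (Sylow p H) ∣ m := by
      have hidx : (Q : Subgroup H).index = m := by
        have := (Q : Subgroup H).card_mul_index
        rw [hQc, hH] at this
        exact Nat.eq_of_mul_eq_mul_left hp.pos this
      exact hidx ▸ Q.card_dvd_index
    have h2' : Nat.card (Sylow p H) % p = 1 % p := card_sylow_modEq_one p H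
    have h3 := Nat.le_of_dvd (by omega) h1
    rw [Nat.mod_eq_of_lt (by omega), Nat.one_mod_eq_one.2 hp.ne_one] at h2'
    exact (Nat.card_eq_one_iff_unique.1 h2').1
  haveI : (Q : Subgroup H).Normal := Sylow.normal_of_subsingleton Q
  obtain ⟨P, hP⟩ := ((Q.2).map H.subtype).exists_le_sylow
  have hPQ : (Q : Subgroup H).map H.subtype = (P : Subgroup G) :=
    Subgroup.eq_of_le_of_card_ge hP (by
      rw [sylow_card hΩ' P, ← Nat.card_congr (Subgroup.equivMapOfInjective _ _ H.subtype_injective).toEquiv,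
        hQc])
  set N := Subgroup.normalizer ((P : Subgroup G) : Set G) with hNdef
  have hHN : H ≤ N := by
    intro h hh
    rw [hNdef, ← hPQ, Subgroup.mem_normalizer_iff]
    intro q
    constructor
    · rintro ⟨q', hq', rfl⟩
      exact ⟨⟨h, hh⟩ * q' * ⟨h, hh⟩⁻¹, Subgroup.Normal.conj_mem ‹_› q' hq' _, rfl⟩
    · rintro ⟨q', hq', he⟩
      refine ⟨⟨h, hh⟩⁻¹ * q' * ⟨h, hh⟩, ?_, ?_⟩
      · exact (Subgroup.Normal.mem_comm ‹_› (show (q' * ⟨h, hh⟩) * ⟨h, hh⟩⁻¹ ∈ (Q : Subgroup H) by rwa [mul_inv_cancel_right])) |> fun x => by rwa [mul_assoc]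
      · simp only [Subgroup.coe_subtype, Subgroup.coe_mul, Subgroup.coe_inv] at he ⊢
        rw [he]; group
  have hsign : ∀ [Fintype Ω'] [DecidableEq Ω'] (g : G),
      Equiv.Perm.sign (toPerm g : Equiv.Perm Ω') = 1 := by
    intro _ _ g
    have hP' : ∀ x : Ω, x ∈ Ω' ↔ toPerm (g : X) x ∈ Ω' := by
      intro x
      rw [SubMulAction.mem_ofStabilizer_iff, SubMulAction.mem_ofStabilizer_iff, toPerm_apply]
      exact not_congr ⟨fun e => by rw [e]; exact g.2,
        fun e => smul_left_cancel (g : X) (e.trans (show (g : X) • T.α = T.α from g.2).symm)⟩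
    have hmov : ∀ x : Ω, toPerm (g : X) x ≠ x → x ∈ Ω' := fun x hx => by
      rw [SubMulAction.mem_ofStabilizer_iff]
      rintro rfl
      exact hx g.2
    have h := Equiv.Perm.sign_subtypePerm (toPerm (g : X) : Equiv.Perm Ω)
      (p := fun x => x ∈ Ω') (fun x => (hP' x).symm) hmov
    rw [heven] at h
    rw [show (toPerm g : Equiv.Perm Ω') = (toPerm (g : X) : Equiv.Perm Ω).subtypePerm
      (fun x => (hP' x).symm) from Equiv.ext fun x => rfl]
    convert h
  have hN2 := card_normalizer_half hΩ' P hm (hH ▸ Subgroup.card_dvd_of_le hHN) hsign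
  -- insoluble
  have hG : ¬ Group.IsSolvable G := by
    intro hs
    have htop := normalizer_eq_top_of_solvable hΩ' hs P
    have hGc : Nat.card G = p * m := by
      rw [htop, Subgroup.card_top, show p * (p - 1) = 2 * (p * m) by rw [hm, Nat.add_sub_cancel]; ring]
        at hN2
      omega
    haveI : IsPretransitive L Ω := isPretransitive_of_is_two_pretransitive (G := L) (α := Ω)
    have e1 := G.card_mul_index
    have e2 := (stabilizer L T.α).card_mul_index
    rw [index_stabilizer_of_transitive, hΩ, hGc] at e1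
    rw [index_stabilizer_of_transitive, hΩ, T.stab] at e2
    exact hLX (Subgroup.eq_top_of_card_eq _ (e2.symm.trans e1))
  by_contra h3
  obtain ⟨⟨C⟩, -⟩ := HalfNorm.exists_coords hΩ' P hN2
  have hmod := HalfNorm.mod_four_of_not_three hΩ' hG P hN2 h3
  obtain ⟨D⟩ := HalfNorm.exists_tri hΩ' hG C h3
  have hmodd : Odd m := Nat.odd_iff.2 (by omega)
  exact not_tri L T hp7 hΩ hm hmodd h2 D fun E hE => by
    have := HalfNorm.false_of_line hΩ' hG P hN2 E hE
    omega

end Cfsg.Agent.Overgroup
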