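import Cfsg.Agent.Lib.Perm.DegreePrimePlusOne
import Cfsg.Agent.Lib.Classical.ProjLine
import Cfsg.Agent.Lib.Perm.Burnside
import Mathlib.LinearAlgebra.Matrix.SpecialLinearGroup
import Mathlib.GroupTheory.SpecificGroups.Cyclic

/-!
The diagonal subgroup and the inverting involution in a doubly transitive copy of `PSL(2, p)` on
`p + 1` points.
-/

set_option autoImplicit false
set_option linter.style.haveILetI false
set_option linter.unusedSectionVars false

namespace Cfsg.Agent.Overgroup

open MulAction Matrix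
open scoped MatrixGroups

variable {p : ℕ} [Fact p.Prime]

/-- The diagonal matrix. -/
def diag (a : (ZMod p)ˣ) : SL(2, ZMod p) :=
  ⟨!![(a : ZMod p), 0; 0, ((a⁻¹ : (ZMod p)ˣ) : ZMod p)], by
    rw [Matrix.det_fin_two_of, zero_mul, sub_zero, Units.mul_inv]⟩

theorem diag_coe (a : (ZMod p)ˣ) : (diag a : Matrix (Fin 2) (Fin 2) (ZMod p)) =
    !![(a : ZMod p), 0; 0, ((a⁻¹ : (ZMod p)ˣ) : ZMod p)] := rfl

/-- The diagonal matrices as a homomorphism. -/
def diagHom : (ZMod p)ˣ →* SL(2, ZMod p) :=
  MonoidHom.mk' diag fun a b => by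
    refine Subtype.ext ?_
    rw [Matrix.SpecialLinearGroup.coe_mul, diag_coe, diag_coe, diag_coe, Matrix.mul_fin_two,
      mul_inv, Units.val_mul, Units.val_mul]
    simp only [zero_mul, mul_zero, add_zero, zero_add]

/-- Upper unipotent. -/
def up (x : ZMod p) : SL(2, ZMod p) := ⟨!![1, x; 0, 1], by simp [Matrix.det_fin_two_of]⟩

theorem up_coe (x : ZMod p) : (up x : Matrix (Fin 2) (Fin 2) (ZMod p)) = !![1, x; 0, 1] := rfl

/-- The Weyl element. -/
def weyl : SL(2, ZMod p) := ⟨!![0, 1; -1, 0], by simp [Matrix.det_fin_two_of]⟩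

theorem weyl_coe : ((weyl : SL(2, ZMod p)) : Matrix (Fin 2) (Fin 2) (ZMod p)) = !![0, 1; -1, 0] := rfl

theorem up_pow (x : ZMod p) (n : ℕ) : up x ^ n = up ((n : ZMod p) * x) := by
  induction n with
  | zero => exact Subtype.ext (by simp [up_coe, Matrix.one_fin_two])
  | succ n ih =>
    rw [pow_succ, ih]
    refine Subtype.ext ?_
    rw [Matrix.SpecialLinearGroup.coe_mul, up_coe, up_coe, up_coe, Matrix.mul_fin_two]
    simp [add_mul, add_comm]

theorem diag_up (a : (ZMod p)ˣ) : diag a * up 1 = up ((a : ZMod p) ^ 2) * diag a := by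
  refine Subtype.ext ?_
  rw [Matrix.SpecialLinearGroup.coe_mul, Matrix.SpecialLinearGroup.coe_mul, up_coe, up_coe, diag_coe,
    Matrix.mul_fin_two, Matrix.mul_fin_two]
  simp only [zero_mul, mul_zero, add_zero, zero_add, mul_one, one_mul, pow_two, mul_assoc, Units.mul_inv]

theorem diag_weyl (a : (ZMod p)ˣ) : diag a * weyl = weyl * diag a⁻¹ := by
  refine Subtype.ext ?_
  rw [Matrix.SpecialLinearGroup.coe_mul, Matrix.SpecialLinearGroup.coe_mul, weyl_coe, diag_coe, diag_coe,
    Matrix.mul_fin_two, Matrix.mul_fin_two, inv_inv]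
  simp only [zero_mul, mul_zero, add_zero, zero_add, mul_one, one_mul, mul_neg, neg_mul, neg_zero]

theorem weyl_sq_central (A : SL(2, ZMod p)) : A * (weyl * weyl) = (weyl * weyl) * A := by
  refine Subtype.ext ?_
  have hw : (!![0, 1; -1, 0] * !![0, 1; -1, 0] : Matrix (Fin 2) (Fin 2) (ZMod p)) = -1 := by
    rw [Matrix.mul_fin_two, Matrix.one_fin_two]
    simp
  simp [weyl_coe, hw]

theorem diag_neg_one_central (A : SL(2, ZMod p)) : A * diag (-1) = diag (-1) * A := by
  refine Subtype.ext ?_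
  have hd : (diag (-1 : (ZMod p)ˣ) : Matrix (Fin 2) (Fin 2) (ZMod p)) = -1 := by
    rw [diag_coe, show ((-1 : (ZMod p)ˣ))⁻¹ = -1 from inv_neg_one.trans rfl, Matrix.one_fin_two]
    simp
  simp [hd]

variable {X : Type*} [Group X] [Finite X] {Ω : Type*} [MulAction X Ω] [FaithfulSMul X Ω] [Finite Ω]

/-- The data used from `PSL(2, p)`. -/
structure Torus (L : Subgroup X) (Ω : Type*) [MulAction X Ω] (m : ℕ) where
  α : Ω
  β : Ω
  ne : α ≠ β
  T : Subgroup X
  le : T ≤ L
  cyclic : IsCyclic T
  card : Nat.card T = m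
  fixα : ∀ t ∈ T, t • α = α
  fixβ : ∀ t ∈ T, t • β = β
  free : ∀ t ∈ T, ∀ x : Ω, x ≠ α → x ≠ β → t • x = x → t = 1
  w : X
  w_mem : w ∈ L
  wα : w • α = β
  wβ : w • β = α
  w_sq : w * w = 1
  w_inv : ∀ t ∈ T, w * t * w⁻¹ = t⁻¹
  stab : ∀ x : Ω, Nat.card (stabilizer L x) = p * m

theorem exists_torus (hp7 : 7 < p) (hΩ : Nat.card Ω = p + 1) (L : Subgroup X)
    (e : L ≃* Matrix.ProjectiveSpecialLinearGroup (Fin 2) (ZMod p))
    (h2 : IsMultiplyPretransitive L Ω 2) {m : ℕ} (hm : p = 2 * m + 1) :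
    Nonempty (Torus (p := p) L Ω m) := by
  classical
  have hp := (Fact.out : p.Prime)
  haveI : Finite L := inferInstance
  haveI : FaithfulSMul L Ω := ⟨fun h => Subtype.ext (FaithfulSMul.eq_of_smul_eq_smul h)⟩
  haveI : IsPretransitive L Ω := isPretransitive_of_is_two_pretransitive (G := L) (α := Ω)
  have hLcard : Nat.card L = (p + 1) * p * m := by
    have h := Cfsg.Agent.ProjLine.two_mul_card_psl (F := ZMod p)
    rw [Nat.card_zmod, Nat.gcd_eq_left (show 2 ∣ p - 1 by omega), ← Nat.card_congr e.toEquiv,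
      show p - 1 = 2 * m by omega] at h
    refine Nat.eq_of_mul_eq_mul_right (show 0 < 2 * (2 * m) by omega) ?_
    rw [show Nat.card L * (2 * (2 * m)) = 2 * Nat.card L * (2 * m) by ring, h]
    ring
  have hstab : ∀ x : Ω, Nat.card (stabilizer L x) = p * m := by
    intro x
    have h := (stabilizer L x).card_mul_index
    rw [index_stabilizer_of_transitive, hΩ, hLcard] at h
    exact Nat.eq_of_mul_eq_mul_right (by omega : 0 < p + 1) (by rw [h]; ring)
  obtain ⟨S⟩ := Cfsg.Agent.DegPlusOne.exists_base (G := L) hp hΩ hLcard (by omega)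
  let π : SL(2, ZMod p) →* Matrix.ProjectiveSpecialLinearGroup (Fin 2) (ZMod p) := QuotientGroup.mk' _
  let f : SL(2, ZMod p) →* L := e.symm.toMonoidHom.comp π
  have hker : ∀ A, f A = 1 ↔ A ∈ Subgroup.center SL(2, ZMod p) := fun A => by
    simp [f, π, QuotientGroup.eq_one_iff]
  set u := f (up 1) with hu
  have hcomm : ∀ A, A ∈ Subgroup.center SL(2, ZMod p) → ∀ B, B * A = A * B :=
    fun A hA B => Subgroup.mem_center_iff.1 hA B
  have hWu : ¬ Commute (weyl (p := p) * up 1 * weyl⁻¹) (up 1) := by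
    intro h
    have h1 := congrArg (fun A : SL(2, ZMod p) => (A : Matrix (Fin 2) (Fin 2) (ZMod p)) 0 0) h.eq
    simp [weyl_coe, up_coe, Matrix.adjugate_fin_two] at h1
  have huo : orderOf u = p := by
    refine orderOf_eq_prime ?_ ?_
    · rw [hu, ← map_pow, up_pow, ZMod.natCast_self, zero_mul,
        show up (0 : ZMod p) = 1 from Subtype.ext (by simp [up_coe, Matrix.one_fin_two]), map_one]
    · intro h1
      exact hWu (hcomm _ ((hker _).1 h1) _)
  -- an element of order `p` fixes one point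
  obtain ⟨α, hα⟩ : ∃ a : Ω, u • a = a := by
    by_contra hno
    simp only [not_exists] at hno
    have hpg : IsPGroup p (Subgroup.zpowers u) :=
      IsPGroup.of_card (n := 1) (by rw [Nat.card_zpowers, huo, pow_one])
    have h := hpg.card_modEq_card_fixedPoints Ω
    haveI : IsEmpty (fixedPoints (Subgroup.zpowers u) Ω) :=
      ⟨fun x => hno x.1 (x.2 ⟨u, Subgroup.mem_zpowers u⟩)⟩
    rw [hΩ, Nat.card_of_isEmpty] at h
    have h' : (p + 1) % p = 0 % p := h
    rw [Nat.zero_mod, Nat.add_mod_left, Nat.mod_eq_of_lt hp.one_lt] at h'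
    omega
  have huniq : ∀ x : Ω, u • x = x → x = α := by
    intro x hx
    by_contra hne
    obtain ⟨y, hy⟩ : ∃ y, u • y ≠ y := by
      refine Classical.byContradiction fun hno => ?_
      simp only [not_exists, not_not] at hno
      have h1 : u = 1 := eq_of_smul_eq_smul fun z : Ω => by rw [hno z, one_smul]
      rw [h1, orderOf_one] at huo
      exact hp.one_lt.ne huo
    have hpg : IsPGroup p (Subgroup.zpowers u) :=
      IsPGroup.of_card (n := 1) (by rw [Nat.card_zpowers, huo, pow_one])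
    obtain ⟨j, hj⟩ := hpg.card_orbit y
    have hsub : (orbit (Subgroup.zpowers u) y) ⊆ ({x, α}ᶜ : Set Ω) := by
      have hfix : ∀ z : Ω, u • z = z → ∀ w ∈ Subgroup.zpowers u, w • z = z := fun z hz w hw =>
        Subgroup.zpowers_le.2 (show u ∈ stabilizer L z from hz) hw
      rintro _ ⟨⟨w, hw⟩, rfl⟩ hmem
      have key : ∀ z : Ω, u • z = z → w • y ≠ z := fun z hz e => hy (by
        have : y = z := smul_left_cancel w (e.trans (hfix z hz w hw).symm)
        rw [this, hz])
      rcases hmem with h | h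
      · exact key x hx h
      · exact key α hα h
    have hle := Set.ncard_le_ncard hsub
    rw [Set.ncard_compl, Set.ncard_pair hne, hΩ, ← Nat.card_coe_set_eq, hj] at hle
    rcases j with _ | j
    · rw [pow_zero] at hj
      haveI := (Nat.card_eq_one_iff_unique.1 hj).1
      exact hy (congrArg Subtype.val (Subsingleton.elim
        (⟨u • y, ⟨⟨u, Subgroup.mem_zpowers u⟩, rfl⟩⟩ : orbit (Subgroup.zpowers u) y)
        ⟨y, mem_orbit_self y⟩))
    · have : p ≤ p ^ (j + 1) := Nat.le_self_pow (Nat.succ_ne_zero j) p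
      omega
  let φ : (ZMod p)ˣ →* L := f.comp diagHom
  have hφfix : ∀ a, φ a • α = α := by
    intro a
    apply huniq
    obtain ⟨n, hn⟩ : ∃ n : ℕ, up ((((a⁻¹ : (ZMod p)ˣ)) : ZMod p) ^ 2) = up 1 ^ n :=
      ⟨((((a⁻¹ : (ZMod p)ˣ)) : ZMod p) ^ 2).val, by rw [up_pow, ZMod.natCast_zmod_val, mul_one]⟩
    have h : φ a⁻¹ * u = u ^ n * φ a⁻¹ := by
      show f (diag a⁻¹) * f (up 1) = f (up 1) ^ n * f (diag a⁻¹)
      rw [← map_mul, diag_up, hn, map_mul, map_pow]
    rw [map_inv] at h
    have h2 : u * φ a = φ a * u ^ n := by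
      calc u * φ a = φ a * ((φ a)⁻¹ * u) * φ a := by group
        _ = φ a * (u ^ n * (φ a)⁻¹) * φ a := by rw [h]
        _ = φ a * u ^ n := by group
    rw [smul_smul, h2, mul_smul]
    congr 1
    exact Subgroup.pow_mem (stabilizer L α) (show u ∈ stabilizer L α from hα) n
  set w : L := f weyl with hw
  have hw2 : w * w = 1 := by
    rw [hw, ← map_mul, hker]
    exact Subgroup.mem_center_iff.2 weyl_sq_central
  have hwt : ∀ a, φ a * w = w * φ a⁻¹ := fun a => by
    show f (diag a) * f weyl = f weyl * f (diag a⁻¹)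
    rw [← map_mul, diag_weyl, map_mul]
  have hne : α ≠ w • α := by
    intro hwa
    -- two unipotents fixing one point commute
    have h1 : u ∈ stabilizer L α := hα
    have h2 : w * u * w⁻¹ ∈ stabilizer L α := by
      rw [mem_stabilizer_iff, mul_smul, mul_smul, show w⁻¹ • α = α from inv_smul_eq_iff.2 hwa, hα]
      exact hwa.symm
    obtain ⟨P⟩ : Nonempty (Sylow p (stabilizer L α)) := inferInstance
    have hn : Nat.card (Sylow p (stabilizer L α)) = 1 := by
      have hd : Nat.card (Sylow p (stabilizer L α)) ∣ p * m := hstab α ▸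
        (P.card_dvd_index.trans (Subgroup.index_dvd_card _))
      have hmod : Nat.card (Sylow p (stabilizer L α)) % p = 1 % p := card_sylow_modEq_one p _
      rw [Nat.mod_eq_of_lt hp.one_lt] at hmod
      have hcop : (Nat.card (Sylow p (stabilizer L α))).Coprime p := by
        rw [Nat.coprime_comm, hp.coprime_iff_not_dvd]
        intro hdv
        rw [Nat.mod_eq_zero_of_dvd hdv] at hmod
        omega
      have hle := Nat.le_of_dvd (by omega) (hcop.dvd_of_dvd_mul_left hd)
      rw [Nat.mod_eq_of_lt (by omega)] at hmod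
      exact hmod
    haveI := (Nat.card_eq_one_iff_unique.1 hn).1
    have hin : ∀ g : stabilizer L α, orderOf g = p → g ∈ (P : Subgroup (stabilizer L α)) := by
      intro g hg
      obtain ⟨Q, hQ⟩ := (IsPGroup.of_card (p := p) (n := 1)
        (by rw [Nat.card_zpowers, hg, pow_one]) : IsPGroup p (Subgroup.zpowers g)).exists_le_sylow
      rw [Subsingleton.elim P Q]
      exact hQ (Subgroup.mem_zpowers g)
    have hPc : Nat.card (P : Subgroup (stabilizer L α)) = p := by
      rw [P.card_eq_multiplicity, hstab, Nat.factorization_mul hp.ne_zero (by omega), Finsupp.add_apply,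
        hp.factorization_self, Nat.factorization_eq_zero_of_not_dvd
          (fun hdv => by have := Nat.le_of_dvd (by omega) hdv; omega), pow_one]
    haveI : IsCyclic (P : Subgroup (stabilizer L α)) := isCyclic_of_prime_card hPc
    have hu' := hin ⟨u, h1⟩ (by rw [Subgroup.orderOf_mk, huo])
    have hv' := hin ⟨w * u * w⁻¹, h2⟩ (by
      rw [Subgroup.orderOf_mk, ← MulAut.conj_apply, MulEquiv.orderOf_eq, huo])
    have hc := congrArg (fun x : (P : Subgroup (stabilizer L α)) => ((x : stabilizer L α) : L))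
      (mul_comm' (⟨_, hv'⟩ : (P : Subgroup (stabilizer L α))) ⟨_, hu'⟩)
    simp only [Subgroup.coe_mul] at hc
    change f weyl * f (up 1) * (f weyl)⁻¹ * f (up 1) = f (up 1) * (f weyl * f (up 1) * (f weyl)⁻¹) at hc
    rw [← map_inv, ← map_mul, ← map_mul, ← map_mul, ← map_mul] at hc
    set A := weyl (p := p) * up 1 * weyl⁻¹
    -- so they commute up to a central element
    obtain ⟨z, hz, hAz⟩ : ∃ z ∈ Subgroup.center SL(2, ZMod p), A * up 1 = z * (up 1 * A) :=
      ⟨A * up 1 * (up 1 * A)⁻¹, (hker _).1 (by rw [map_mul, map_inv, hc, mul_inv_cancel]), by group⟩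
    obtain ⟨s, -, hs⟩ := Matrix.SpecialLinearGroup.mem_center_iff.1 hz
    have hAz' := congrArg (fun B : SL(2, ZMod p) => (B : Matrix (Fin 2) (Fin 2) (ZMod p))) hAz
    simp only [Matrix.SpecialLinearGroup.coe_mul] at hAz'
    rw [← hs] at hAz'
    have e11 := congrFun (congrFun hAz' 0) 1
    have e00 := congrFun (congrFun hAz' 0) 0
    have e10 := congrFun (congrFun hAz' 1) 0
    simp [A, weyl_coe, up_coe, Matrix.adjugate_fin_two] at e11 e00 e10
  have hTfixβ : ∀ a, φ a • w • α = w • α := fun a => by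
    rw [smul_smul, hwt, mul_smul, hφfix]
  let T : Subgroup X := φ.range.map L.subtype
  have hTc : Nat.card T = m := by
    rw [← Nat.card_congr (Subgroup.equivMapOfInjective _ _ L.subtype_injective).toEquiv]
    have h := φ.ker.card_mul_index
    rw [Subgroup.index_ker, Nat.card_eq_fintype_card (α := (ZMod p)ˣ), ZMod.card_units] at h
    have hkc : Nat.card φ.ker = 2 := by
      have hm1 : (-1 : (ZMod p)ˣ) ≠ 1 := by
        intro e'
        have h' := congrArg Units.val e'
        rw [Units.val_neg, Units.val_one] at h'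
        have : ((2 : ℕ) : ZMod p) = 0 := by push_cast; linear_combination -h'
        rw [ZMod.natCast_eq_zero_iff] at this
        have := Nat.le_of_dvd (by norm_num) this
        omega
      have : φ.ker = Subgroup.zpowers (-1) := by
        refine le_antisymm (fun a ha => ?_) (Subgroup.zpowers_le.2 ?_)
        · have hc := hcomm _ ((hker (diag a)).1 ha) (up 1)
          have h' := congrFun (congrFun (congrArg Subtype.val hc) 0) 1
          rw [Matrix.SpecialLinearGroup.coe_mul, Matrix.SpecialLinearGroup.coe_mul, up_coe, diag_coe, Matrix.mul_fin_two, Matrix.mul_fin_two] at h'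
          simp only [zero_mul, mul_zero, add_zero, zero_add, mul_one, one_mul, Matrix.of_apply, Matrix.cons_val_zero, Matrix.cons_val_one] at h'
          have hinv : a⁻¹ = a := Units.ext h'
          have : (a : ZMod p) * a = 1 := by
            rw [← Units.val_mul]
            nth_rw 1 [← hinv]
            rw [inv_mul_cancel, Units.val_one]
          rcases mul_self_eq_one_iff.1 this with h1 | h1
          · rw [show a = 1 from Units.ext h1]; exact one_mem _
          · rw [show a = -1 from Units.ext (by rw [h1, Units.val_neg, Units.val_one])]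
            exact Subgroup.mem_zpowers _
        · exact (hker _).2 (Subgroup.mem_center_iff.2 diag_neg_one_central)
      rw [this, Nat.card_zpowers]
      exact orderOf_eq_prime (p := 2) (by simp) hm1
    rw [hkc] at h
    omega
  refine ⟨⟨α, w • α, hne, T, ?_, ?_, hTc, ?_, ?_, ?_, (w : X), w.2, rfl, ?_, ?_, ?_, hstab⟩⟩
  · rintro _ ⟨x, -, rfl⟩
    exact x.2
  · exact isCyclic_of_surjective
      (MonoidHom.codRestrict (L.subtype.comp φ) T fun a => ⟨φ a, ⟨a, rfl⟩, rfl⟩) (by
        rintro ⟨_, _, ⟨a, rfl⟩, rfl⟩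
        exact ⟨a, rfl⟩)
  · rintro _ ⟨_, ⟨a, rfl⟩, rfl⟩
    exact hφfix a
  · rintro _ ⟨_, ⟨a, rfl⟩, rfl⟩
    exact hTfixβ a
  · rintro _ ⟨_, ⟨a, rfl⟩, rfl⟩ x hxa hxb hx
    rw [S.three_fixed (φ a) α (w • α) x hne hxb.symm hxa.symm (hφfix a) (hTfixβ a) hx]
    rfl
  · rw [show (w : X) • w • α = ((w * w : L) : X) • α from (mul_smul (w : X) (w : X) α).symm, hw2]
    exact one_smul X α |>.trans rfl
  · show ((w * w : L) : X) = 1
    rw [hw2]
    rfl
  · rintro _ ⟨_, ⟨a, rfl⟩, rfl⟩
    show ((w * φ a * w⁻¹ : L) : X) = (((φ a)⁻¹ : L) : X)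
    congr 1
    rw [mul_inv_eq_iff_eq_mul, ← map_inv, hwt a⁻¹, inv_inv]

end Cfsg.Agent.Overgroup
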