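import Cfsg.Agent.Lib.HalfNorm.Netto
import Cfsg.Agent.Lib.Perm.IndexP
import Mathlib.GroupTheory.Perm.Closure
import Mathlib.Combinatorics.Enumerative.DoubleCounting

/-!
Prime degree `q + 2`: triple transitivity, and the action of the stabiliser of a pair on the other
`q` points.
-/

set_option autoImplicit false
set_option linter.style.haveILetI false
set_option linter.unusedSectionVars false

namespace Cfsg.Agent.HalfNorm

open MulAction
open Cfsg.Agent.PermModules Cfsg.Agent.PermPrime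

variable {G : Type*} [Group G] {Ω : Type*} [MulAction G Ω]

/-- In degree `q + 2` with `q` prime one of the two orbits of triples is made of lines. -/
theorem three_twin [Finite G] [FaithfulSMul G Ω] [IsPretransitive G Ω] {p : ℕ} [Fact p.Prime]
    (hΩ : Nat.card Ω = p) (hG : ¬ Group.IsSolvable G) (P : Sylow p G)
    (hN : 2 * Nat.card ↥(Subgroup.normalizer ((P : Subgroup G) : Set G)) = p * (p - 1))
    {q : ℕ} (hq : q.Prime) (hq5 : 5 < q) (hpq : p = q + 2) : IsMultiplyPretransitive G Ω 3 := by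
  classical
  by_contra h3
  haveI : Finite Ω := Nat.finite_of_card_ne_zero (by omega)
  haveI := Fintype.ofFinite Ω
  have h2 : IsMultiplyPretransitive G Ω 2 := (burnside hΩ).resolve_left hG
  obtain ⟨⟨C⟩, -⟩ := exists_coords hΩ P hN
  obtain ⟨D⟩ := exists_tri hΩ hG C h3
  obtain ⟨α, β, γ, hγ⟩ := D.ex
  have hαβ := D.ne12 hγ
  let A := Finset.univ.filter fun z => D.T α β z
  let B := Finset.univ.filter fun z => z ≠ α ∧ z ≠ β ∧ ¬ D.T α β z
  let N : Ω → Ω → Finset Ω := fun x y => Finset.univ.filter fun z => D.T x y z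
  have hAB : A.card + B.card = q := by
    have h1 : A ∪ B = (Finset.univ.erase α).erase β := by
      ext u
      simp only [A, B, Finset.mem_union, Finset.mem_filter, Finset.mem_univ, true_and,
        Finset.mem_erase, and_true]
      constructor
      · rintro (hu | ⟨h1, h2, -⟩)
        exacts [⟨(D.ne23 hu).symm, (D.ne13 hu).symm⟩, ⟨h2, h1⟩]
      · rintro ⟨h2, h1⟩
        exact (em _).imp_right fun hu => ⟨h1, h2, hu⟩
    have h2 : Disjoint A B := Finset.disjoint_filter.2 fun u _ hu hu' => hu'.2.2 hu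
    rw [← Finset.card_union_of_disjoint h2, h1, Finset.card_erase_of_mem (by simp [hαβ.symm]),
      Finset.card_erase_of_mem (Finset.mem_univ α), Finset.card_univ, ← Nat.card_eq_fintype_card, hΩ]
    omega
  have hA0 : 0 < A.card := Finset.card_pos.2 ⟨γ, by simpa [A] using hγ⟩
  have hB0 : 0 < B.card := by
    obtain ⟨a, b, c, n1, n2, n3, hT⟩ := D.ex'
    obtain ⟨g, ga, gb⟩ := (is_two_pretransitive_iff.1 h2) n1 hαβ
    refine Finset.card_pos.2 ⟨g • c, ?_⟩
    simp only [B, Finset.mem_filter, Finset.mem_univ, true_and]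
    refine ⟨fun e => n2 (smul_left_cancel g (e ▸ ga)), fun e => n3 (smul_left_cancel g (e ▸ gb)), ?_⟩
    rw [← ga, ← gb, D.inv_iff]
    exact hT
  have hval : ∀ x y, x ≠ y → (N x y).card = A.card := by
    intro x y hxy
    obtain ⟨g, ga, gb⟩ := (is_two_pretransitive_iff.1 h2) hαβ hxy
    refine (Finset.card_equiv (toPerm g) fun z => ?_).symm
    simp only [A, N, Finset.mem_filter, Finset.mem_univ, true_and, toPerm_apply, ← ga, ← gb, D.inv_iff]
  -- neighbours inside `A`
  have hconst : ∀ (P : Ω → Prop), (∀ u u', P u → P u' →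
        ∃ g : G, g • α = α ∧ g • β = β ∧ g • u = u') →
      ∀ u u', P u → P u' → (A.filter fun z => D.T α u z).card = (A.filter fun z => D.T α u' z).card := by
    intro P hP u u' hu hu'
    obtain ⟨g, ga, gb, gu⟩ := hP u u' hu hu'
    refine Finset.card_equiv (toPerm g) fun z => ?_
    simp only [A, Finset.mem_filter, Finset.mem_univ, true_and, toPerm_apply]
    exact and_congr ((D.inv_iff g).symm.trans (by rw [ga, gb]))
      ((D.inv_iff g).symm.trans (by rw [ga, gu]))
  have hmemA : ∀ {z}, z ∈ A ↔ D.T α β z := by simp [A]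
  have hmemB : ∀ {z}, z ∈ B ↔ z ≠ α ∧ z ≠ β ∧ ¬ D.T α β z := by simp [B]
  obtain ⟨u₀, hu₀⟩ := Finset.card_pos.1 hA0
  obtain ⟨v₀, hv₀⟩ := Finset.card_pos.1 hB0
  set l := (A.filter fun z => D.T α u₀ z).card
  set m := (A.filter fun z => D.T α v₀ z).card
  have hl : ∀ u ∈ A, (B.filter fun z => D.T α u z).card + l + 1 = A.card := by
    intro u hu
    have e : (A.filter fun z => D.T α u z).card = l :=
      hconst (D.T α β) (fun _ _ h h' => D.orbit h h') u u₀ (hmemA.1 hu) (hmemA.1 hu₀)
    have hset : N α u = insert β ((A.filter fun z => D.T α u z) ∪ B.filter fun z => D.T α u z) := by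
      ext z
      simp only [N, A, B, Finset.mem_filter, Finset.mem_univ, true_and, Finset.mem_insert,
        Finset.mem_union]
      constructor
      · intro hz
        by_cases hzb : z = β
        · exact Or.inl hzb
        by_cases hT : D.T α β z
        · exact Or.inr (Or.inl ⟨hT, hz⟩)
        · exact Or.inr (Or.inr ⟨⟨(D.ne13 hz).symm, hzb, hT⟩, hz⟩)
      · rintro (rfl | ⟨-, hz⟩ | ⟨-, hz⟩)
        exacts [D.s23 (hmemA.1 hu), hz, hz]
    have hnot : β ∉ (A.filter fun z => D.T α u z) ∪ B.filter fun z => D.T α u z := by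
      simp only [A, B, Finset.mem_union, Finset.mem_filter, Finset.mem_univ, true_and, not_or]
      exact ⟨fun h => D.ne23 h.1 rfl, fun h => h.1.2.1 rfl⟩
    have hd : Disjoint (A.filter fun z => D.T α u z) (B.filter fun z => D.T α u z) :=
      Finset.disjoint_filter_filter (Finset.disjoint_filter.2 fun z _ hz hz' => hz'.2.2 hz)
    rw [← hval α u (D.ne13 (hmemA.1 hu)), hset, Finset.card_insert_of_notMem hnot,
      Finset.card_union_of_disjoint hd, e]
    omega
  have hm : ∀ v ∈ B, (A.filter fun z => D.T α v z).card = m := fun v hv =>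
    hconst (fun z => z ≠ α ∧ z ≠ β ∧ ¬ D.T α β z)
      (fun _ _ h h' => D.orbit' hαβ h.1.symm h.2.1.symm h.2.2 hαβ h'.1.symm h'.2.1.symm h'.2.2)
      v v₀ (hmemB.1 hv) (hmemB.1 hv₀)
  have hbip := Finset.sum_card_bipartiteAbove_eq_sum_card_bipartiteBelow (fun u z => D.T α u z)
    (s := A) (t := B)
  rw [Finset.sum_const_nat (m := A.card - 1 - l) (fun u hu => by
      have := hl u hu
      rw [Finset.bipartiteAbove]
      omega),
    Finset.sum_const_nat (m := m) (fun v hv => by
      rw [Finset.bipartiteBelow, ← hm v hv]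
      congr 1
      ext z
      simp only [Finset.mem_filter]
      exact and_congr_right fun _ => ⟨D.s23, D.s23⟩)] at hbip
  have hma : m ≤ A.card := Finset.card_filter_le _ _
  have hdvd : A.card ∣ m := by
    refine ((Nat.Coprime.dvd_mul_left ?_).1 (Dvd.intro _ hbip))
    rw [Nat.coprime_comm, ← Nat.coprime_add_self_left, add_comm B.card, hAB]
    exact hq.coprime_iff_not_dvd.2 fun h => by
      have := Nat.le_of_dvd hA0 h
      omega
  -- reduction of the line condition to the graph at `α`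
  have toline : ∀ E : Tri G Ω, (∀ u v, E.T α β u → E.T α u v → v ≠ β → E.T α β v) →
      ∀ a b c d, E.T a b c → E.T a b d → c ≠ d → E.T a c d := by
    intro E hE a b c d h1 h2' hcd
    obtain ⟨g, ga, gc⟩ := (is_two_pretransitive_iff.1 h2) (E.ne13 h1) hαβ
    have k1 := E.inv g (E.s23 h1)
    have k2 := E.inv g h2'
    rw [ga, gc] at k1
    rw [ga] at k2
    refine (E.inv_iff g).1 ?_
    rw [ga, gc]
    exact hE _ _ k1 k2 fun e => hcd (smul_left_cancel g (gc.trans e.symm))
  rcases (Nat.eq_zero_or_pos m) with h0 | h0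
  · have := false_of_line hΩ hG P hN D (toline D fun u v hu huv hvb => by
      by_contra hv
      have hvB : v ∈ B := hmemB.2 ⟨(D.ne13 huv).symm, hvb, hv⟩
      have he := hm v hvB
      rw [h0, Finset.card_eq_zero, Finset.filter_eq_empty_iff] at he
      exact he (hmemA.2 hu) (D.s23 huv))
    omega
  · have hme : m = A.card := le_antisymm hma (Nat.le_of_dvd h0 hdvd)
    have := false_of_line hΩ hG P hN D.compl (toline D.compl fun u v hu huv hvb => by
      refine ⟨hαβ, huv.2.1, hvb.symm, fun hv => ?_⟩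
      have he := hm u (hmemB.2 ⟨hu.2.1.symm, hu.2.2.1.symm, hu.2.2.2⟩)
      rw [hme, Finset.card_filter_eq_iff] at he
      exact huv.2.2.2 (he v (hmemA.2 hv)))
    omega

/-- The setwise stabiliser of a pair. -/
def pairStab (G : Type*) [Group G] {Ω : Type*} [MulAction G Ω] (a b : Ω) : Subgroup G where
  carrier := {g | g • a = a ∧ g • b = b ∨ g • a = b ∧ g • b = a}
  one_mem' := Or.inl ⟨one_smul _ a, one_smul _ b⟩
  mul_mem' := by
    rintro g h (⟨g1, g2⟩ | ⟨g1, g2⟩) (⟨h1, h2⟩ | ⟨h1, h2⟩) <;>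
      simp [mul_smul, g1, g2, h1, h2]
  inv_mem' := by
    rintro g (⟨g1, g2⟩ | ⟨g1, g2⟩)
    · exact Or.inl ⟨inv_smul_eq_iff.2 g1.symm, inv_smul_eq_iff.2 g2.symm⟩
    · exact Or.inr ⟨inv_smul_eq_iff.2 g2.symm, inv_smul_eq_iff.2 g1.symm⟩

/-- The points outside a pair. -/
def rest (G : Type*) [Group G] {Ω : Type*} [MulAction G Ω] (a b : Ω) :
    SubMulAction (pairStab G a b) Ω where
  carrier := {x | x ≠ a ∧ x ≠ b}
  smul_mem' := by
    rintro ⟨g, hg⟩ x ⟨hxa, hxb⟩
    change g • x ≠ a ∧ g • x ≠ b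
    rcases hg with ⟨g1, g2⟩ | ⟨g1, g2⟩
    · exact ⟨fun e => hxa (smul_left_cancel g (e.trans g1.symm)),
        fun e => hxb (smul_left_cancel g (e.trans g2.symm))⟩
    · exact ⟨fun e => hxb (smul_left_cancel g (e.trans g2.symm)),
        fun e => hxa (smul_left_cancel g (e.trans g1.symm))⟩

theorem mem_fix_iff {a b : Ω} (hab : a ≠ b) {h : pairStab G a b} :
    h ∈ stabilizer (pairStab G a b) a ↔ (h : G) • a = a ∧ (h : G) • b = b := by
  rw [mem_stabilizer_iff]
  refine ⟨fun e => ⟨e, ?_⟩, fun e => e.1⟩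
  rcases h.2 with ⟨-, h2⟩ | ⟨h1, -⟩
  · exact h2
  · exact absurd (e.symm.trans h1) hab

theorem mul_mem_fix {a b : Ω} (hab : a ≠ b) {g h : pairStab G a b}
    (hg : g ∉ stabilizer (pairStab G a b) a) (hh : h ∉ stabilizer (pairStab G a b) a) :
    g * h ∈ stabilizer (pairStab G a b) a := by
  rw [mem_fix_iff hab] at hg hh
  rw [mem_stabilizer_iff]
  change ((g : G) * h) • a = a
  rw [mul_smul, (h.2.resolve_left hh).1, (g.2.resolve_left hg).2]

theorem card_rest [Finite Ω] {a b : Ω} (hab : a ≠ b) :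
    Nat.card (rest G a b) = Nat.card Ω - 2 := by
  classical
  haveI := Fintype.ofFinite Ω
  have e : Nat.card (rest G a b) = Nat.card {x // x ∈ (Finset.univ.erase a).erase b} :=
    Nat.card_congr (Equiv.subtypeEquivRight fun x => by
      simp only [Finset.mem_erase, Finset.mem_univ, and_true]
      exact and_comm)
  rw [e, Nat.card_eq_fintype_card, Fintype.card_coe, Finset.card_erase_of_mem (by simp [hab.symm]),
    Finset.card_erase_of_mem (Finset.mem_univ a), Finset.card_univ, Nat.card_eq_fintype_card]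
  omega

theorem exists_triple (h3 : IsMultiplyPretransitive G Ω 3) {a b c a' b' c' : Ω}
    (n1 : a ≠ b) (n2 : a ≠ c) (n3 : b ≠ c) (k1 : a' ≠ b') (k2 : a' ≠ c') (k3 : b' ≠ c') :
    ∃ g : G, g • a = a' ∧ g • b = b' ∧ g • c = c' := by
  let u : Fin 3 ↪ Ω := ⟨![a, b, c], fun i j => by
    fin_cases i <;> fin_cases j <;> simp [n1, n2, n3, n1.symm, n2.symm, n3.symm]⟩
  let v : Fin 3 ↪ Ω := ⟨![a', b', c'], fun i j => by
    fin_cases i <;> fin_cases j <;> simp [k1, k2, k3, k1.symm, k2.symm, k3.symm]⟩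
  obtain ⟨g, hg⟩ := (isMultiplyPretransitive_iff.1 h3) (x := u) (y := v)
  exact ⟨g, DFunLike.congr_fun hg 0, DFunLike.congr_fun hg 1, DFunLike.congr_fun hg 2⟩

theorem fix_pretransitive (h3 : IsMultiplyPretransitive G Ω 3) {a b : Ω} (hab : a ≠ b) :
    IsPretransitive (stabilizer (pairStab G a b) a) (rest G a b) := by
  refine ⟨fun ⟨x, hxa, hxb⟩ ⟨y, hya, hyb⟩ => ?_⟩
  obtain ⟨g, ga, gb, gx⟩ := exists_triple h3 hab hxa.symm hxb.symm hab hya.symm hyb.symm
  exact ⟨⟨⟨g, Or.inl ⟨ga, gb⟩⟩, ga⟩, Subtype.ext gx⟩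

theorem fix_faithful [FaithfulSMul G Ω] {a b : Ω} (hab : a ≠ b) :
    FaithfulSMul (stabilizer (pairStab G a b) a) (rest G a b) := by
  refine ⟨fun {g h} hgh => Subtype.ext (Subtype.ext ?_)⟩
  refine FaithfulSMul.eq_of_smul_eq_smul fun x : Ω => ?_
  obtain ⟨ga, gb⟩ := (mem_fix_iff hab).1 g.2
  obtain ⟨ha, hb⟩ := (mem_fix_iff hab).1 h.2
  by_cases hxa : x = a
  · rw [hxa, ga, ha]
  by_cases hxb : x = b
  · rw [hxb, gb, hb]
  exact congrArg Subtype.val (hgh ⟨x, hxa, hxb⟩)

/-- A solvable transitive group of prime degree has order dividing `q * (q - 1)`. -/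
theorem card_solvable_prime [Finite G] [FaithfulSMul G Ω] [IsPretransitive G Ω] {q : ℕ}
    [Fact q.Prime] (hΩ : Nat.card Ω = q) [Group.IsSolvable G] :
    ∃ f, f ∣ q - 1 ∧ Nat.card G = q * f := by
  obtain ⟨P⟩ : Nonempty (Sylow q G) := inferInstance
  haveI := PermThree.solvable_affine hΩ P
  have hP := sylow_card hΩ P
  obtain ⟨x⟩ : Nonempty Ω := (Nat.card_pos_iff.1 (hΩ ▸ (Fact.out : q.Prime).pos)).1
  haveI : IsCyclic (P : Subgroup G) := isCyclic_of_prime_card hP
  let φ : stabilizer G x →* MulAut (P : Subgroup G) :=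
    MulAut.conjNormal.comp (stabilizer G x).subtype
  have htrans : ∀ y : Ω, ∃ t ∈ (P : Subgroup G), t • x = y := by
    haveI : Finite Ω := Nat.finite_of_card_ne_zero (hΩ ▸ (Fact.out : q.Prime).ne_zero)
    intro y
    have hblock := IsBlock.orbit_of_normal (G := G) (N := (P : Subgroup G)) x
    have hd : Nat.card (orbit (P : Subgroup G) x) ∣ q := hΩ ▸ by
      rw [Nat.card_coe_set_eq]
      exact hblock.ncard_dvd_card ⟨x, mem_orbit_self x⟩
    rcases (Nat.dvd_prime (Fact.out : q.Prime)).1 hd with h | h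
    · exfalso
      have hle : (P : Subgroup G) ≤ stabilizer G x := fun t ht => by
        have hs := (Nat.card_eq_one_iff_unique.1 h).1
        exact congrArg Subtype.val (Subsingleton.elim (α := orbit (P : Subgroup G) x)
          ⟨t • x, ⟨⟨t, ht⟩, rfl⟩⟩ ⟨x, mem_orbit_self x⟩)
      have hidx := index_stabilizer_of_transitive G x
      have := Subgroup.index_dvd_of_le hle
      rw [hidx, hΩ] at this
      exact P.not_dvd_index this
    · have : orbit (P : Subgroup G) x = Set.univ := by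
        rw [Set.eq_univ_iff_ncard, ← Nat.card_coe_set_eq, h, hΩ]
      obtain ⟨⟨t, ht⟩, e⟩ := this.ge (Set.mem_univ y)
      exact ⟨t, ht, e⟩
  have hinj : Function.Injective φ := by
    rw [injective_iff_map_eq_one]
    intro g hg
    refine Subtype.ext (FaithfulSMul.eq_of_smul_eq_smul fun y : Ω => ?_)
    obtain ⟨t, ht, rfl⟩ := htrans y
    have e := congrArg Subtype.val (DFunLike.congr_fun hg ⟨t, ht⟩)
    simp only [φ, MonoidHom.comp_apply, Subgroup.subtype_apply, MulAut.conjNormal_apply,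
      MulAut.one_apply] at e
    rw [Subgroup.coe_one, one_smul]
    conv_lhs => rw [smul_smul, show (g : G) * t = t * g from mul_inv_eq_iff_eq_mul.1 e, mul_smul,
      mem_stabilizer_iff.1 g.2]
  refine ⟨Nat.card (stabilizer G x), ?_, ?_⟩
  · have := Subgroup.card_dvd_of_injective φ hinj
    rwa [IsCyclic.card_mulAut, hP, Nat.totient_prime Fact.out] at this
  · rw [← (stabilizer G x).index_mul_card, index_stabilizer_of_transitive G x, hΩ]

end Cfsg.Agent.HalfNorm
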